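import Groth.Agent.Fano.K715.LinForms
import Groth.Agent.Sga5.ProjChart
import Mathlib.RingTheory.Flat.EquationalCriterion
import Mathlib.RingTheory.RingHom.Flat
import Mathlib.LinearAlgebra.Matrix.ToLin

/-!
# Exactness of matrix complexes: from homogeneous coordinates to charts, and along flat maps
-/

set_option autoImplicit false

universe u

open MvPolynomial

namespace K715.HBAlg

open Groth.Agent.Sga5

section Homog

variable {k : Type u} [Field k] {N : ℕ}

/-- Homogenization in all large degrees. -/
theorem exists_homogenization (j : Fin (N + 1)) (p : MvPolynomial (Fin N) k) :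
    ∃ M₀ : ℕ, ∀ M, M₀ ≤ M → ∃ F : MvPolynomial (Fin (N + 1)) k, F.IsHomogeneous M ∧
      ProjChart.dehom N k j F = p := by
  induction p using MvPolynomial.induction_on with
  | C c =>
    refine ⟨0, fun M _ => ⟨C c * X j ^ M, ?_, ?_⟩⟩
    · simpa using (isHomogeneous_C (Fin (N + 1)) c).mul ((isHomogeneous_X k j).pow M)
    · simp
  | add p q hp hq =>
    obtain ⟨M₁, h1⟩ := hp
    obtain ⟨M₂, h2⟩ := hq
    refine ⟨max M₁ M₂, fun M hM => ?_⟩
    obtain ⟨F₁, hF₁, e1⟩ := h1 M ((le_max_left _ _).trans hM)
    obtain ⟨F₂, hF₂, e2⟩ := h2 M ((le_max_right _ _).trans hM)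
    exact ⟨F₁ + F₂, hF₁.add hF₂, by rw [map_add, e1, e2]⟩
  | mul_X p l hp =>
    obtain ⟨M₁, h1⟩ := hp
    refine ⟨M₁ + 1, fun M hM => ?_⟩
    obtain ⟨F₁, hF₁, e1⟩ := h1 (M - 1) (by omega)
    refine ⟨F₁ * X (j.succAbove l), ?_, by rw [map_mul, e1, ProjChart.dehom_X]⟩
    have := hF₁.mul (isHomogeneous_X k (j.succAbove l))
    rwa [Nat.sub_add_cancel (by omega)] at this

theorem dehom_injOn (j : Fin (N + 1)) {D : ℕ} {F F' : MvPolynomial (Fin (N + 1)) k} (hF : F.IsHomogeneous D)
    (hF' : F'.IsHomogeneous D) (h : ProjChart.dehom N k j F = ProjChart.dehom N k j F') : F = F' := by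
  have h1 := ProjChart.val_ofPoly_dehom N k j D F hF
  have h2 := ProjChart.val_ofPoly_dehom N k j D F' hF'
  rw [h, h2] at h1
  have hinj : Function.Injective (algebraMap (MvPolynomial (Fin (N + 1)) k)
      (Localization.Away (X j : MvPolynomial (Fin (N + 1)) k))) :=
    IsLocalization.injective _ (powers_le_nonZeroDivisors_of_noZeroDivisors (X_ne_zero j))
  exact (hinj h1).symm

/-- The relation `B v = 0 ⟹ v ∈ im A` for matrices. -/
def MatExact {R : Type*} [CommRing R] {p q r : ℕ} (A : Matrix (Fin q) (Fin p) R) (B : Matrix (Fin r) (Fin q) R) :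
    Prop :=
  ∀ v : Fin q → R, B.mulVec v = 0 → ∃ w : Fin p → R, v = A.mulVec w

/-- Exactness in homogeneous coordinates implies exactness on a chart. -/
theorem matExact_dehom (j : Fin (N + 1)) {p q r : ℕ} (A : Matrix (Fin q) (Fin p) (MvPolynomial (Fin (N + 1)) k))
    (B : Matrix (Fin r) (Fin q) (MvPolynomial (Fin (N + 1)) k)) (h : MatExact A B)
    (β : Fin q → ℕ) (γ : Fin r → ℕ) (d : Fin r → Fin q → ℕ) (hd : ∀ i l, d i l + β l = γ i)
    (hB : ∀ i l, (B i l).IsHomogeneous (d i l)) :
    MatExact (A.map (ProjChart.dehom N k j)) (B.map (ProjChart.dehom N k j)) := by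
  intro v hv
  choose M₀ hM₀ using fun l => exists_homogenization j (v l)
  let M : ℕ := ∑ l, M₀ l
  have hM : ∀ l, M₀ l ≤ M := fun l =>
    Finset.single_le_sum (f := M₀) (fun _ _ => Nat.zero_le _) (Finset.mem_univ l)
  choose V hV hV' using fun l => hM₀ l (M + β l) ((hM l).trans (Nat.le_add_right _ _))
  have h0 : B.mulVec V = 0 := by
    funext i
    refine dehom_injOn j (D := M + γ i) ?_ (isHomogeneous_zero _ _ _) ?_
    · refine IsHomogeneous.sum _ _ _ fun l _ => ?_
      have := (hB i l).mul (hV l)
      have e : d i l + (M + β l) = M + γ i := by have := hd i l; omega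
      rwa [e] at this
    · have := congrFun hv i
      simp only [Matrix.mulVec, dotProduct, Matrix.map_apply, Pi.zero_apply] at this ⊢
      rw [map_sum, map_zero]
      simp_rw [map_mul, hV']
      exact this
  obtain ⟨W, hW⟩ := h V h0
  refine ⟨fun i => ProjChart.dehom N k j (W i), ?_⟩
  funext l
  have := congrArg (ProjChart.dehom N k j) (congrFun hW l)
  rw [hV'] at this
  rw [this]
  simp only [Matrix.mulVec, dotProduct, Matrix.map_apply, map_sum, map_mul]

end Homog

/-- Flat base change of exactness of a matrix complex. -/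
theorem matExact_flat {R R' : Type*} [CommRing R] [CommRing R'] (f : R →+* R') (hf : f.Flat) {p q r : ℕ}
    (A : Matrix (Fin q) (Fin p) R) (B : Matrix (Fin r) (Fin q) R) (h : MatExact A B) :
    MatExact (A.map f) (B.map f) := by
  algebraize [f]
  intro v hv
  let x : (Fin q → R) →ₗ[R] R' := Fintype.linearCombination R v
  let g : (Fin r → R) →ₗ[R] (Fin q → R) := B.transpose.mulVecLin
  have hx : x ∘ₗ g = 0 := by
    apply LinearMap.pi_ext
    intro i c
    have hi := congrFun hv i
    simp only [Matrix.mulVec, dotProduct, Matrix.map_apply, Pi.zero_apply] at hi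
    simp only [LinearMap.comp_apply, LinearMap.zero_apply, x, g, Fintype.linearCombination_apply,
      Matrix.mulVecLin_apply]
    have h2 : ∀ l, (B.transpose.mulVec (Pi.single i c)) l = c * B i l := by
      intro l
      simp [Matrix.mulVec_single, Matrix.transpose_apply, mul_comm]
    simp_rw [h2, mul_smul]
    rw [← Finset.smul_sum]
    have h3 : ∑ l, B i l • v l = 0 := by
      rw [← hi]
      exact Finset.sum_congr rfl fun l _ => Algebra.smul_def _ _
    rw [h3, smul_zero]
  obtain ⟨n, a, y, hya, ha⟩ := Module.Flat.exists_factorization_of_comp_eq_zero_of_free hx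
  -- `a : (Fin q → R) → (Fin n → R)`, `x = y ∘ a`, `a ∘ g = 0`
  have key : ∀ s, ∃ w : Fin p → R, (fun l => a (Pi.single l 1) s) = A.mulVec w := by
    intro s
    apply h
    funext i
    have h1 := congrArg (fun z => z s) (LinearMap.congr_fun ha (Pi.single i 1))
    simp only [LinearMap.comp_apply, LinearMap.zero_apply] at h1
    have h2 : g (Pi.single i 1) = ∑ l, B i l • (Pi.single l 1 : Fin q → R) := by
      funext l
      simp [g, Matrix.mulVec_single, Matrix.transpose_apply, Finset.sum_apply, Pi.single_apply]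
    rw [h2, map_sum] at h1
    simp only [map_smul] at h1
    simpa [Matrix.mulVec, dotProduct, Finsupp.finsetSum_apply] using h1
  choose w hw using key
  refine ⟨∑ s, fun i => f (w s i) * y (Finsupp.single s 1), ?_⟩
  funext l
  have h1 : v l = x (Pi.single l 1) := by
    simp [x, Fintype.linearCombination_apply, Pi.single_apply]
  rw [h1, hya, LinearMap.comp_apply]
  have h2 : a (Pi.single l 1) = ∑ s, (a (Pi.single l 1) s) • Finsupp.single s (1 : R) := by
    ext s
    simp [Finsupp.finsetSum_apply, Finsupp.single_apply]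
  rw [h2, map_sum]
  simp only [map_smul, Matrix.mulVec, dotProduct, Matrix.map_apply, Finset.sum_apply]
  simp only [Finset.mul_sum]
  rw [Finset.sum_comm]
  refine Finset.sum_congr rfl fun s _ => ?_
  have h3 := congrFun (hw s) l
  simp only [Matrix.mulVec, dotProduct] at h3
  rw [h3, Algebra.smul_def, RingHom.algebraMap_toAlgebra, map_sum, Finset.sum_mul]
  refine Finset.sum_congr rfl fun i _ => ?_
  rw [map_mul]; ring

end K715.HBAlg
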