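import Groth.Agent.Fano.K715.LciLift
import Groth.Agent.Fano.K715.HBAlg
import Groth.Agent.DefT.K692.HBIdeal
import Groth.Agent.DefT.K692.CodimPair
import Groth.Agent.S11460

/-!
# Local lifts of Cohen-Macaulay subschemes of codimension two

* `exists_lift_ring_hb`: an ideal with flat quotient whose closed fibre has a Hilbert-Burch presentation lifts.
* `exists_regPair_ideal`: regular pairs in the ideal on affine opens.
* `exists_isLocalLift_hb`, `surjective_localHilb_hb`.
-/

set_option autoImplicit false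

universe u

open CategoryTheory CategoryTheory.Limits AlgebraicGeometry Opposite TopologicalSpace

namespace K715.HBLocLift

open IsLocalRing Groth.Agent K692.HBLift Groth.Agent.Divis.DepthTwo

section ring

theorem map_comp' {A B : Type*} [CommRing A] [CommRing B] {m n : ℕ} (φ : Matrix (Fin m) (Fin n) A) (g : A →+* B) :
    φ.map g = φ.map (fun a => g a) := rfl

/-- Hilbert-Burch exactness is preserved by flat base change. -/
theorem HBExact.map_flat {A B : Type u} [CommRing A] [CommRing B] (g : A →+* B) (hg : g.Flat) {r : ℕ}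
    {φ : Matrix (Fin (r + 1)) (Fin r) A} (h : HBExact φ) : HBExact (φ.map g) := by
  have hlc : ∀ {R : Type u} [CommRing R] (ψ : Matrix (Fin (r + 1)) (Fin r) R) (y : Fin (r + 1) → R),
      Fintype.linearCombination R (mins ψ) y = 0 ↔
        (Matrix.of fun (_ : Fin 1) i => mins ψ i).mulVec y = 0 := by
    intro R _ ψ y
    constructor
    · intro h1
      funext i
      rw [Fintype.linearCombination_apply] at h1
      change _ = (0 : R)
      rw [← h1]
      simp only [Matrix.mulVec, dotProduct, Matrix.of_apply, smul_eq_mul]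
      exact Finset.sum_congr rfl fun j _ => mul_comm _ _
    · intro h1
      have h2 := congrFun h1 0
      simp only [Matrix.mulVec, dotProduct, Matrix.of_apply, Pi.zero_apply] at h2
      rw [Fintype.linearCombination_apply, ← h2]
      exact Finset.sum_congr rfl fun j _ => mul_comm _ _
  constructor
  · -- injectivity
    have h1 : K715.HBAlg.MatExact (0 : Matrix (Fin r) (Fin 0) A) φ := by
      intro v hv
      refine ⟨fun i => i.elim0, ?_⟩
      have : v = 0 := h.1 (by rw [Matrix.mulVecLin_apply, hv, map_zero])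
      rw [this]
      simp
    have h2 := K715.HBAlg.matExact_flat g hg _ _ h1
    rw [injective_iff_map_eq_zero]
    intro v hv
    obtain ⟨w, hw⟩ := h2 v hv
    rw [hw]
    simp
  · have h1 : K715.HBAlg.MatExact φ (Matrix.of fun (_ : Fin 1) i => mins φ i) := by
      intro v hv
      have h3 : v ∈ LinearMap.ker (Fintype.linearCombination A (mins φ)) := (hlc φ v).2 hv
      rw [← h.2] at h3
      obtain ⟨w, hw⟩ := h3
      exact ⟨w, hw.symm⟩
    have h2 := K715.HBAlg.matExact_flat g hg _ _ h1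
    apply le_antisymm
    · rintro _ ⟨x, rfl⟩
      exact linearCombination_mins_mulVec _ x
    · intro y hy
      have h3 : (Matrix.of fun (_ : Fin 1) i => mins (φ.map g) i).mulVec y = 0 := (hlc _ y).1 hy
      have h4 : (Matrix.of fun (_ : Fin 1) i => mins (φ.map g) i) =
          (Matrix.of fun (_ : Fin 1) i => mins φ i).map g := by
        ext i j
        exact mins_map φ g j
      rw [h4] at h3
      obtain ⟨w, hw⟩ := h2 y h3
      exact ⟨w, hw.symm⟩

theorem RegPair.map_flat {A B : Type u} [CommRing A] [CommRing B] (g : A →+* B) (hg : g.Flat) {a b : A}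
    (h : RegPair a b A) : RegPair (g a) (g b) B := by
  have h1 := Divis.RegImm.isWeaklyRegular_map_of_flat g hg h.isWeaklyRegular
  exact Divis.DepthTwo.RegPair.of_isWeaklyRegular (l := []) h1

/-- **Lifting Hilbert-Burch ideals.** -/
theorem exists_lift_ring_hb {C' C R' R R₀ : Type u} [CommRing C'] [IsLocalRing C'] [CommRing C] [IsLocalRing C]
    [CommRing R'] [CommRing R] [CommRing R₀]
    (hnC' : IsNilpotent (maximalIdeal C')) (hnC : IsNilpotent (maximalIdeal C))
    (φ : C' →+* R') (ψ : C →+* R) (hφ : φ.Flat) (hψ : ψ.Flat)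
    (π : R' →+* R) (hπ : Function.Surjective π) (ρ : R →+* R₀) (hρ : Function.Surjective ρ)
    (h1 : RingHom.ker (ρ.comp π) = (maximalIdeal C').map φ)
    (h2 : RingHom.ker ρ = (maximalIdeal C).map ψ)
    (b : Ideal R) (hb : ((Ideal.Quotient.mk b).comp ψ).Flat)
    {r : ℕ} (Φ : Matrix (Fin (r + 1)) (Fin r) R₀) (hex : HBExact Φ)
    (hgen : b.map ρ = Ideal.span (Set.range (mins Φ)))
    (hab : ∃ x ∈ b.map ρ, ∃ y ∈ b.map ρ, RegPair x y R₀) :
    ∃ b' : Ideal R', ((Ideal.Quotient.mk b').comp φ).Flat ∧ b'.map π = b := by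
  let _ : Algebra C' R' := φ.toAlgebra
  let _ : Algebra C R := ψ.toAlgebra
  have hfl' : Module.Flat C' R' := hφ
  have hfl : Module.Flat C R := hψ
  have hflb : Module.Flat C (R ⧸ b) := hb
  -- the quotients
  let e' : R' ⧸ (maximalIdeal C').map (algebraMap C' R') ≃+* R₀ :=
    (Ideal.quotEquivOfEq h1.symm).trans (RingHom.quotientKerEquivOfSurjective (f := ρ.comp π) (hρ.comp hπ))
  have he' : ∀ x : R', e' (Ideal.Quotient.mk _ x) = ρ (π x) := fun x => rfl
  let e : R ⧸ (maximalIdeal C).map (algebraMap C R) ≃+* R₀ :=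
    (Ideal.quotEquivOfEq h2.symm).trans (RingHom.quotientKerEquivOfSurjective (f := ρ) hρ)
  have he : ∀ x : R, e (Ideal.Quotient.mk _ x) = ρ x := fun x => rfl
  have hes : ∀ x : R, e.symm.toRingHom (ρ x) = Ideal.Quotient.mk _ x := by
    intro x
    change e.symm (ρ x) = _
    rw [← he, e.symm_apply_apply]
  have hes' : ∀ x : R', e'.symm.toRingHom (ρ (π x)) = Ideal.Quotient.mk _ x := by
    intro x
    change e'.symm (ρ (π x)) = _
    rw [← he', e'.symm_apply_apply]
  have hcomp : e.symm.toRingHom.comp ρ = Ideal.Quotient.mk ((maximalIdeal C).map (algebraMap C R)) :=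
    RingHom.ext hes
  have hsfl : e.symm.toRingHom.Flat := RingHom.Flat.of_bijective e.symm.bijective
  have hsfl' : e'.symm.toRingHom.Flat := RingHom.Flat.of_bijective e'.symm.bijective
  have hmap : b.map (Ideal.Quotient.mk ((maximalIdeal C).map (algebraMap C R))) =
      (b.map ρ).map e.symm.toRingHom := by
    rw [Ideal.map_map, hcomp]
  obtain ⟨x₀, hx₀, y₀, hy₀, hxy⟩ := hab
  obtain ⟨x, hx, y, hy, hreg, hJ⟩ := K692.CodimPair.exists_regPair_lift hnC b
    (a₀ := e.symm.toRingHom x₀) (b₀ := e.symm.toRingHom y₀)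
    (by rw [hmap]; exact Ideal.mem_map_of_mem _ hx₀) (by rw [hmap]; exact Ideal.mem_map_of_mem _ hy₀)
    (RegPair.map_flat _ hsfl hxy)
  obtain ⟨Ψ, hΨ1, -, hΨ2⟩ := K692.HBIdeal.exists_minors hnC b (Φ.map e.symm.toRingHom)
    (HBExact.map_flat _ hsfl hex) (by
      rw [hmap, hgen, K692.HBIdeal.span_mins_map]) hx hy hreg (hJ _)
  choose Ψ' hΨ' using fun i j => hπ (Ψ i j)
  have h3 : (Matrix.of Ψ').map (Ideal.Quotient.mk ((maximalIdeal C').map (algebraMap C' R'))) =
      Φ.map e'.symm.toRingHom := by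
    ext i j
    have h4 : Ideal.Quotient.mk ((maximalIdeal C).map (algebraMap C R)) (Ψ i j) = e.symm.toRingHom (Φ i j) :=
      congrFun (congrFun hΨ1 i) j
    rw [← hes] at h4
    have h5 : ρ (Ψ i j) = Φ i j := e.symm.injective h4
    change Ideal.Quotient.mk _ (Ψ' i j) = e'.symm.toRingHom (Φ i j)
    rw [← h5, ← hΨ', hes']
  have hmax : (maximalIdeal C').IsMaximal := inferInstance
  obtain ⟨-, h6⟩ := hbExact_and_flat hnC' (Matrix.of Ψ') (by
    rw [h3]
    exact HBExact.map_flat _ hsfl' hex) (K692.NilReg.flat_over_field C' (maximalIdeal C') _)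
  refine ⟨Ideal.span (Set.range (mins (Matrix.of Ψ'))), h6, ?_⟩
  rw [hΨ2, ← K692.HBIdeal.span_mins_map]
  have h7 : (Matrix.of Ψ').map π = Ψ := by
    ext i j
    exact hΨ' i j
  rw [h7]

end ring

section geo

open ArtFun K693.LHSit K693.IdealFam K693.LHUser Groth.Agent.Divis.ExtendStalk

theorem exists_prime_point {X : Scheme.{u}} (U : X.affineOpens) (p : Ideal Γ(X, U.1)) (hp : p.IsPrime) :
    ∃ x : U.1, U.2.primeIdealOf x = ⟨p, hp⟩ := by
  have hx : U.2.fromSpec ⟨p, hp⟩ ∈ U.1 := by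
    have h1 : U.2.fromSpec ⟨p, hp⟩ ∈ Set.range U.2.fromSpec := ⟨_, rfl⟩
    rw [U.2.range_fromSpec] at h1
    exact h1
  refine ⟨⟨_, hx⟩, ?_⟩
  apply U.2.fromSpec.isOpenEmbedding.injective
  exact U.2.fromSpec_primeIdealOf ⟨_, hx⟩

/-- Regular pairs in an ideal of codimension at least two on a regular scheme. -/
theorem exists_regPair_ideal {X : Scheme.{u}} [IsLocallyNoetherian X]
    (hreg : ∀ x : X, IsRegularLocalRing (X.presheaf.stalk x)) (I : X.IdealSheafData)
    (hcodim : ∀ x ∈ I.support, 2 ≤ ringKrullDim (X.presheaf.stalk x)) (U : X.affineOpens) :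
    ∃ a ∈ I.ideal U, ∃ b ∈ I.ideal U, RegPair a b Γ(X, U.1) := by
  have hnoeth : IsNoetherianRing Γ(X, U.1) := IsLocallyNoetherian.component_noetherian U
  refine exists_regPair (I.ideal U) fun p hp hle => ?_
  obtain ⟨x, hx⟩ := exists_prime_point U p hp
  let := X.presheaf.algebra_section_stalk x
  have hloc : IsLocalization.AtPrime (X.presheaf.stalk x.1) p := by
    have h1 := U.2.isLocalization_stalk x
    rw [hx] at h1
    exact h1
  have hsupp : x.1 ∈ I.support := by
    rw [Scheme.IdealSheafData.mem_support_iff_of_mem (U := U) x.2, Scheme.mem_zeroLocus_iff]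
    intro f hf hfx
    rw [Scheme.mem_basicOpen _ _ x.1 x.2] at hfx
    have h1 : f ∈ p := hle hf
    exact (IsLocalization.AtPrime.to_map_mem_maximal_iff (X.presheaf.stalk x.1) p f).2 h1 |>
      fun h => (IsLocalRing.mem_maximalIdeal _).1 h hfx
  have := hreg x.1
  exact exists_regPair_localizedModule p (A := X.presheaf.stalk x.1) (N := X.presheaf.stalk x.1)
    (Algebra.linearMap Γ(X, U.1) (X.presheaf.stalk x.1))
    (K692.CodimPair.exists_regPair_of_isRegularLocalRing _ (hcodim x.1 hsupp))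

variable {k : Type u} [Field k] (X : Scheme.{u}) (x : X ⟶ Art.specPt k) (I₀ : X.IdealSheafData)
  {C' C : Art k k} {p : C' ⟶ C} (hp : Art.IsSemismallExt p) (I : (localHilb X x I₀).obj C)

include hp in
/-- Local lifts of a subscheme with local Hilbert-Burch presentations. -/
theorem exists_isLocalLift_hb (y : I₀.subscheme)
    (hy : ∃ U : X.affineOpens, I₀.subschemeι y ∈ U.1 ∧ ∃ (r : ℕ) (Φ : Matrix (Fin (r + 1)) (Fin r) Γ(X, U.1)),
      HBExact Φ ∧ Ideal.span (Set.range (mins Φ)) = I₀.ideal U)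
    (hpair : ∀ U : X.affineOpens, ∃ a ∈ I₀.ideal U, ∃ b ∈ I₀.ideal U, RegPair a b Γ(X, U.1)) :
    ∃ W : (Art.XA x C').affineOpens, Art.XAincl x C' (I₀.subschemeι y) ∈ W.1 ∧
      ∃ b, IsLocalLift X x I₀ p I W b := by
  obtain ⟨U, hyU, r, Φ, hΦ, hU⟩ := hy
  let G := geo X x I₀ p hp I
  have hj : (Art.XAincl x C') = G.j₁ ≫ G.jX := (Art.XAincl_XAmap x p).symm
  obtain ⟨V, hV, hVU⟩ : ∃ V : Set (Art.XA x C'), IsOpen V ∧ (Art.XAincl x C') ⁻¹' V = U.1 :=
    (Art.XAincl x C').isClosedEmbedding.isInducing.isOpen_iff.1 U.1.2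
  have hyV : Art.XAincl x C' (I₀.subschemeι y) ∈ (⟨V, hV⟩ : (Art.XA x C').Opens) := by
    have h1 : I₀.subschemeι y ∈ (Art.XAincl x C') ⁻¹' V := by rw [hVU]; exact hyU
    exact h1
  obtain ⟨W', hW', hyW, hWV⟩ := exists_isAffineOpen_mem_and_subset hyV
  refine ⟨⟨W', hW'⟩, hyW, ?_⟩
  let W : G.X'.affineOpens := ⟨W', hW'⟩
  let W₁ : G.X.affineOpens := ⟨G.jX ⁻¹ᵁ W.1, W.2.preimage G.jX⟩
  let W₀ : X.affineOpens := ⟨G.j₁ ⁻¹ᵁ W₁.1, W₁.2.preimage G.j₁⟩
  have hW₀ : W₀.1 ≤ U.1 := by
    intro z hz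
    have h1 : z ∈ (Art.XAincl x C') ⁻¹' V := by
      apply hWV
      rw [hj]
      exact hz
    rw [hVU] at h1
    exact h1
  have hflat := Divis.RegImm.flat_res U.2 W₀.2 hW₀
  have hΦ' := HBExact.map_flat _ hflat hΦ
  have hgen : I₀.ideal W₀ = Ideal.span (Set.range (mins (Φ.map (X.presheaf.map (homOfLE hW₀).op).hom))) := by
    rw [← I₀.map_ideal (U := W₀) (V := U) hW₀, ← hU, ← K692.HBIdeal.span_mins_map]
    rfl
  have hc : (I.1.ideal W₁).map (G.j₁.app W₁.1).hom = I₀.ideal W₀ := by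
    have h1 := G.ideal_comap₁ W₁
    have h2 : I₀.subschemeι.ker = I₀ := I₀.ker_subschemeι
    rw [h2] at h1
    exact h1.symm
  obtain ⟨b', hb1, hb2⟩ := exists_lift_ring_hb (LciLift.isNilpotent_maximalIdeal C')
    (LciLift.isNilpotent_maximalIdeal C)
    (str G.f' W.1) (str G.f W₁.1) (flat_str G.f' W) (by
      have hGf : Flat G.f := MorphismProperty.of_isPullback (P := @Flat) G.sqX G.hf'
      exact flat_str G.f W₁)
    (G.jX.app W.1).hom (G.jX.app_surjective _ W.2) (G.j₁.app W₁.1).hom (G.j₁.app_surjective _ W₁.2)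
    (by
      have h1 := ker_app_eq (G.q.comp G.p) (G.hq.comp G.hp) G.sq₀ W
      have h2 : RingHom.ker (G.q.comp G.p) = maximalIdeal C' := ker_res_comp p
      rw [h2] at h1
      exact h1)
    (by
      have h1 := ker_app_eq G.q G.hq G.sq₁ W₁
      have h2 : RingHom.ker G.q = maximalIdeal C := ker_res C
      rw [h2] at h1
      exact h1)
    (I.1.ideal W₁) (flat_quot_of_flat G.f I.1 I.2.1 W₁)
    _ hΦ' (hc.trans hgen) (by
      obtain ⟨a, ha, b, hb, hab⟩ := hpair W₀
      exact ⟨a, hc.ge ha, b, hc.ge hb, hab⟩)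
  exact ⟨b', hb1, fun h => hb2⟩

include hp in
theorem surjective_localHilb_hb [LocallyOfFiniteType x] [Smooth x]
    (hCM : ∀ y : I₀.subscheme, LocCoh.IsCohenMacaulayLocalRing (I₀.subscheme.presheaf.stalk y))
    (hcodim : ∀ y : I₀.subscheme, ringKrullDim (I₀.subscheme.presheaf.stalk y) + 2 =
      ringKrullDim (X.presheaf.stalk (I₀.subschemeι.base y)))
    [DCoh.HasSheafHom (Omega.conormal I₀.subschemeι)]
    (h1 : Subsingleton (Coh.HH I₀.subscheme ((DCoh.sheafHom (Omega.conormal I₀.subschemeι)).obj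
      (Coh.structureModule I₀.subscheme)) 1)) :
    Function.Surjective ((localHilb X x I₀).map p) := by
  have hX : IsLocallyNoetherian X := LocallyOfFiniteType.isLocallyNoetherian x
  have hreg : ∀ z : X, IsRegularLocalRing (X.presheaf.stalk z) := fun z =>
    VarietyA.RegSmoothSch.isRegularLocalRing_stalk_of_mem_smoothLocus x z (by
      rw [Scheme.Hom.smoothLocus_eq_top]; trivial)
  have hdim : ∀ z ∈ I₀.support, 2 ≤ ringKrullDim (X.presheaf.stalk z) := by
    intro z hz
    obtain ⟨y, rfl⟩ : ∃ y, I₀.subschemeι y = z := by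
      have : z ∈ Set.range I₀.subschemeι := by rw [I₀.range_subschemeι]; exact hz
      exact this
    have h2 := hcodim y
    have h3 : (0 : WithBot ℕ∞) ≤ ringKrullDim (I₀.subscheme.presheaf.stalk y) :=
      ringKrullDim_nonneg_of_nontrivial
    calc (2 : WithBot ℕ∞) = 0 + 2 := (zero_add _).symm
      _ ≤ ringKrullDim (I₀.subscheme.presheaf.stalk y) + 2 := by gcongr
      _ = _ := h2
  intro I
  refine exists_lift_of_H1 X x I₀ hp I h1 fun y => ?_
  refine exists_isLocalLift_hb X x I₀ hp I y ?_ (exists_regPair_ideal hreg I₀ hdim)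
  obtain ⟨U, hyU, r, Φ, h2, h3⟩ := Groth.Agent.S11460.result k X I₀.subscheme x I₀.subschemeι hCM hcodim y
  rw [I₀.ker_subschemeι] at h2
  exact ⟨U, hyU, r, Φ, h3, h2⟩

end geo

end K715.HBLocLift
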