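import Groth.Agent.DefT.K693.LHUser
import Groth.Agent.DefT.K692.NilReg
import Groth.Agent.DefT.K692.NilFlat
import Groth.Agent.Divis.RegImm

/-!
# Local lifts of a regular closed immersion and surjectivity of the local Hilbert functor

* `exists_lift_ring`: an ideal with flat quotient whose closed fibre is generated by a weakly regular sequence lifts.
* `exists_isLocalLift`: local lifts exist at the points of `Y₀ ⊆ X₀`, a regular closed immersion.
* `surjective_localHilb`: if `H¹(Y₀, N) = 0` the local Hilbert functor is surjective along semismall extensions.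
-/

set_option autoImplicit false

universe u

open CategoryTheory CategoryTheory.Limits AlgebraicGeometry Opposite TopologicalSpace

namespace K715.LciLift

open IsLocalRing Groth.Agent

section ring

theorem ofList_ofFn {A : Type*} [CommRing A] {m : ℕ} (a : Fin m → A) :
    Ideal.ofList (List.ofFn a) = Ideal.span (Set.range a) := by
  unfold Ideal.ofList
  congr 1
  ext x
  simp [List.mem_ofFn]

theorem exists_lift_ring {C' C R' R R₀ : Type u} [CommRing C'] [IsLocalRing C'] [CommRing C] [IsLocalRing C]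
    [CommRing R'] [CommRing R] [CommRing R₀]
    (hnC' : IsNilpotent (maximalIdeal C')) (hnC : IsNilpotent (maximalIdeal C))
    (φ : C' →+* R') (ψ : C →+* R) (hφ : φ.Flat)
    (π : R' →+* R) (hπ : Function.Surjective π) (ρ : R →+* R₀) (hρ : Function.Surjective ρ)
    (h1 : RingHom.ker (ρ.comp π) = (maximalIdeal C').map φ)
    (h2 : RingHom.ker ρ = (maximalIdeal C).map ψ)
    (b : Ideal R) (hb : ((Ideal.Quotient.mk b).comp ψ).Flat)
    (rs : List R₀) (hrs : RingTheory.Sequence.IsWeaklyRegular R₀ rs) (hgen : b.map ρ = Ideal.ofList rs) :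
    ∃ b' : Ideal R', ((Ideal.Quotient.mk b').comp φ).Flat ∧ b'.map π = b := by
  let _ : Algebra C' R' := φ.toAlgebra
  let _ : Algebra C R := ψ.toAlgebra
  have hfl : Module.Flat C' R' := hφ
  have hflb : Module.Flat C (R ⧸ b) := hb
  have hg : ∀ i : Fin rs.length, ∃ g ∈ b, ρ g = rs.get i := by
    intro i
    have h3 : rs.get i ∈ b.map ρ := by
      rw [hgen]
      exact Ideal.subset_span (List.get_mem rs i)
    rwa [Ideal.mem_map_iff_of_surjective _ hρ] at h3
  choose g hgb hg' using hg
  choose F hF using fun i => hπ (g i)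
  have hrs' : List.ofFn (fun i => ρ (g i)) = rs := by
    have : (fun i => ρ (g i)) = rs.get := funext hg'
    rw [this, List.ofFn_get]
  -- the quotient
  let e : R' ⧸ (maximalIdeal C').map (algebraMap C' R') ≃+* R₀ :=
    (Ideal.quotEquivOfEq h1.symm).trans (RingHom.quotientKerEquivOfSurjective (f := ρ.comp π) (hρ.comp hπ))
  have he : ∀ x : R', e (Ideal.Quotient.mk _ x) = ρ (π x) := fun x => rfl
  have hreg : RingTheory.Sequence.IsWeaklyRegular (R' ⧸ (maximalIdeal C').map (algebraMap C' R'))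
      ((List.ofFn F).map (Ideal.Quotient.mk ((maximalIdeal C').map (algebraMap C' R')))) := by
    have h3 := Divis.RegImm.isWeaklyRegular_map_of_flat
      (e.symm : R₀ ≃+* (R' ⧸ (maximalIdeal C').map (algebraMap C' R'))).toRingHom
      (RingHom.Flat.of_bijective e.symm.bijective) hrs
    have h4 : (List.ofFn F).map (Ideal.Quotient.mk ((maximalIdeal C').map (algebraMap C' R'))) =
        rs.map (e.symm : R₀ ≃+* (R' ⧸ (maximalIdeal C').map (algebraMap C' R'))).toRingHom := by
      conv_rhs => rw [← hrs']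
      rw [List.map_ofFn, List.map_ofFn]
      congr 1
      funext i
      apply e.injective
      change e (Ideal.Quotient.mk _ (F i)) = e (e.symm (ρ (g i)))
      rw [he, hF, e.apply_symm_apply]
    rw [h4]
    exact h3
  obtain ⟨-, h4⟩ := K692.NilReg.isWeaklyRegular_and_flat_ring hnC' (List.ofFn F) hreg
  refine ⟨Ideal.ofList (List.ofFn F), h4, ?_⟩
  have h5 : b = Ideal.span (Set.range g) := by
    refine K692.NilFlat.eq_span_of_flat_quotient hnC b g hgb ?_
    intro x hx
    have h6 : ρ x ∈ Ideal.ofList rs := by rw [← hgen]; exact Ideal.mem_map_of_mem _ hx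
    have h7 : Ideal.ofList rs = (Ideal.span (Set.range g)).map ρ := by
      rw [← ofList_ofFn, Ideal.map_ofList, List.map_ofFn]
      exact congrArg Ideal.ofList hrs'.symm
    rw [h7, Ideal.mem_map_iff_of_surjective _ hρ] at h6
    obtain ⟨y, hy, hyx⟩ := h6
    have h8 : x = y + (x - y) := by ring
    rw [h8]
    refine Submodule.add_mem_sup hy ?_
    change x - y ∈ (maximalIdeal C).map ψ
    rw [← h2, RingHom.mem_ker, map_sub, hyx, sub_self]
  rw [Ideal.map_ofList, List.map_ofFn, ofList_ofFn, h5]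
  congr 2
  funext i
  exact hF i

end ring

section geo

open ArtFun K693.LHSit K693.IdealFam K693.LHUser

variable {k : Type u} [Field k] (X : Scheme.{u}) (x : X ⟶ Art.specPt k) (I₀ : X.IdealSheafData)
  {C' C : Art k k} {p : C' ⟶ C} (hp : Art.IsSemismallExt p) (I : (localHilb X x I₀).obj C)

theorem isNilpotent_maximalIdeal (C : Art k k) : IsNilpotent (maximalIdeal C) := by
  have h := IsArtinianRing.isNilpotent_jacobson_bot (R := C)
  rwa [IsLocalRing.jacobson_eq_maximalIdeal ⊥ bot_ne_top] at h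

include hp in
/-- Local lifts of a regular closed immersion. -/
theorem exists_isLocalLift (y : I₀.subscheme) (hy : Divis.RegImm.RegAt I₀ (I₀.subschemeι y)) :
    ∃ W : (Art.XA x C').affineOpens, Art.XAincl x C' (I₀.subschemeι y) ∈ W.1 ∧
      ∃ b, IsLocalLift X x I₀ p I W b := by
  obtain ⟨U, hyU, rs, hrs, hU⟩ := hy
  let G := geo X x I₀ p hp I
  have hj : (Art.XAincl x C') = G.j₁ ≫ G.jX := (Art.XAincl_XAmap x p).symm
  obtain ⟨V, hV, hVU⟩ : ∃ V : Set (Art.XA x C'), IsOpen V ∧ (Art.XAincl x C') ⁻¹' V = U.1 :=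
    (Art.XAincl x C').isClosedEmbedding.isInducing.isOpen_iff.1 U.1.2
  have hyV : Art.XAincl x C' (I₀.subschemeι y) ∈ (⟨V, hV⟩ : (Art.XA x C').Opens) := by
    have h1 : I₀.subschemeι y ∈ (Art.XAincl x C') ⁻¹' V := by rw [hVU]; exact hyU
    exact h1
  obtain ⟨W', hW', hyW, hWV⟩ := exists_isAffineOpen_mem_and_subset hyV
  refine ⟨⟨W', hW'⟩, hyW, ?_⟩
  let W : G.X'.affineOpens := ⟨W', hW'⟩
  let W₁ : G.X.affineOpens := ⟨G.jX ⁻¹ᵁ W.1, W.2.preimage G.jX⟩
  let W₀ : X.affineOpens := ⟨G.j₁ ⁻¹ᵁ W₁.1, W₁.2.preimage G.j₁⟩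
  have hW₀ : W₀.1 ≤ U.1 := by
    intro z hz
    have h1 : z ∈ (Art.XAincl x C') ⁻¹' V := by
      apply hWV
      rw [hj]
      exact hz
    rw [hVU] at h1
    exact h1
  have hflat := Divis.RegImm.flat_res U.2 W₀.2 hW₀
  have hrs' := Divis.RegImm.isWeaklyRegular_map_of_flat _ hflat hrs
  have hgen : I₀.ideal W₀ = Ideal.ofList (rs.map (X.presheaf.map (homOfLE hW₀).op).hom) := by
    rw [← I₀.map_ideal (U := W₀) (V := U) hW₀, hU, Ideal.map_ofList]
    rfl
  obtain ⟨b', hb1, hb2⟩ := exists_lift_ring (isNilpotent_maximalIdeal C') (isNilpotent_maximalIdeal C)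
    (str G.f' W.1) (str G.f W₁.1) (flat_str G.f' W)
    (G.jX.app W.1).hom (G.jX.app_surjective _ W.2) (G.j₁.app W₁.1).hom (G.j₁.app_surjective _ W₁.2)
    (by
      have h1 := ker_app_eq (G.q.comp G.p) (G.hq.comp G.hp) G.sq₀ W
      have h2 : RingHom.ker (G.q.comp G.p) = maximalIdeal C' := ker_res_comp p
      rw [h2] at h1
      exact h1)
    (by
      have h1 := ker_app_eq G.q G.hq G.sq₁ W₁
      have h2 : RingHom.ker G.q = maximalIdeal C := ker_res C
      rw [h2] at h1
      exact h1)
    (I.1.ideal W₁) (flat_quot_of_flat G.f I.1 I.2.1 W₁)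
    _ hrs' (by
      have h1 := G.ideal_comap₁ W₁
      have h2 : I₀.subschemeι.ker = I₀ := I₀.ker_subschemeι
      rw [h2] at h1
      exact h1.symm.trans hgen)
  exact ⟨b', hb1, fun h => hb2⟩

include hp in
theorem surjective_localHilb [DCoh.HasSheafHom (Omega.conormal I₀.subschemeι)]
    (hreg : Mor2.IsRegularClosedImmersion I₀.subschemeι)
    (h1 : Subsingleton (Coh.HH I₀.subscheme ((DCoh.sheafHom (Omega.conormal I₀.subschemeι)).obj
      (Coh.structureModule I₀.subscheme)) 1)) :
    Function.Surjective ((localHilb X x I₀).map p) := by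
  intro I
  refine exists_lift_of_H1 X x I₀ hp I h1 fun y => ?_
  refine exists_isLocalLift X x I₀ hp I y ?_
  have h2 := ((Divis.RegImm.isRegularClosedImmersion_iff _).1 hreg).2 y
  rwa [I₀.ker_subschemeι] at h2

end geo

end K715.LciLift
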