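import Groth.Agent.Fano.K714.QuartDef
import Groth.Prelude.Def_Curv2

/-!
# Quintic curves of genus two on a cubic threefold as residual curves of lines (definitions)

A decomposition `f = v₀ M₀ + v₁ M₁ + v₂ M₂` of the cubic form `f` (three linearly independent linear forms `v_j`, three
quadratic forms `M_j`) together with two linear forms `a, b` defines the curve
`C = V_+(v₀, v₁ a + v₂ b, v₁ M₁ + v₂ M₂, a M₂ - b M₁) ⊂ V_+(f)`: the residual curve of the line `V_+(v₀, v₁, v₂)` in the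
intersection of the quadric `v₁ a + v₂ b = 0` and the cubic surface `f = 0` in the hyperplane `v₀ = 0`
(inside the hyperplane the ideal is generated by the 2×2 minors of the rows `(a, b), (M₁, M₂), (-v₂, v₁)`).
-/

set_option autoImplicit false
universe u
open CategoryTheory CategoryTheory.Limits AlgebraicGeometry TopologicalSpace Opposite

namespace Groth.Agent.Fano.K715.Quint

open Groth.Agent.Fano.K714.Rat Groth.Agent.Fano.K714.Quart

variable {k : Type u} [Field k]

/-- The parameter space: a decomposition and two further vectors. -/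
abbrev DataG (k : Type u) : Type u := Data k × (Fin 2 → Fin 5 → k)

/-- The coordinates of a point of the parameter space. -/
def coordG (p : DataG k) : ((Fin 3 × Fin 5) ⊕ (Fin 3 × Fin 5 × Fin 5)) ⊕ (Fin 2 × Fin 5) → k :=
  Sum.elim (coord p.1) (fun q => p.2 q.1 q.2)

/-- The product of two forms. -/
noncomputable def fm {a b c : ℕ} (F : LefPen.Form 4 k a) (G : LefPen.Form 4 k b) (h : a + b = c) : LefPen.Form 4 k c :=
  ⟨F.1 * G.1, (MvPolynomial.mem_homogeneousSubmodule _ _).mpr
    (h ▸ ((MvPolynomial.mem_homogeneousSubmodule _ _).mp F.2).mul ((MvPolynomial.mem_homogeneousSubmodule _ _).mp G.2))⟩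

/-- `v₁ a + v₂ b` -/
noncomputable def qdG (p : DataG k) : LefPen.Form 4 k 2 :=
  fm (lin (p.1.1 1)) (lin (p.2 0)) rfl + fm (lin (p.1.1 2)) (lin (p.2 1)) rfl

/-- `v₁ M₁ + v₂ M₂` -/
noncomputable def cubF (p : DataG k) : LefPen.Form 4 k 3 :=
  fm (lin (p.1.1 1)) (quad (p.1.2 1)) rfl + fm (lin (p.1.1 2)) (quad (p.1.2 2)) rfl

/-- `a M₂ - b M₁` -/
noncomputable def cubG (p : DataG k) : LefPen.Form 4 k 3 :=
  fm (lin (p.2 0)) (quad (p.1.2 2)) rfl - fm (lin (p.2 1)) (quad (p.1.2 1)) rfl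

/-- The ideal sheaf on `P^4` of the curve. -/
noncomputable def cG (p : DataG k) : (CohB1.ProjSpace 4 k).IdealSheafData :=
  LefPen.hypIdeal (lin (p.1.1 0)) ⊔ LefPen.hypIdeal (qdG p) ⊔ LefPen.hypIdeal (cubF p) ⊔ LefPen.hypIdeal (cubG p)

/-- The curve is smooth of dimension one. -/
def GoodG (p : DataG k) : Prop :=
  Smooth ((cG p).subschemeι ≫ CohB1.ProjSpace.toSpec 4 k) ∧ topologicalKrullDim ↥(cG p).subscheme = 1

/-- The hyperplane section of `V_+(f)` by `v₀ = 0` is smooth along the curve. -/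
def Transv (f : LefPen.Form 4 k 3) (p : DataG k) : Prop :=
  ∀ z : Fin 5 → k, z ≠ 0 → MvPolynomial.eval z (lin (p.1.1 0)).1 = 0 → MvPolynomial.eval z (qdG p).1 = 0 →
    MvPolynomial.eval z (cubF p).1 = 0 → MvPolynomial.eval z (cubG p).1 = 0 →
      ¬ ∃ c : k, ∀ i, MvPolynomial.eval z (MvPolynomial.pderiv i f.1) = c * p.1.1 0 i

/-- `x` is the point of the Hilbert scheme of `V_+(f)` given by the curve. -/
def IsClassG (f : LefPen.Form 4 k 3) (H : Over (Spec (CommRingCat.of k))) (Z : FGA.HilbSet (ps f) H)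
    (p : DataG k) (x : ↥H.left) : Prop :=
  ∃ h : pt k ⟶ H, x = h.left.base (IsLocalRing.closedPoint k) ∧
    FGA.hilbPull (ps f) h Z.1 = ((cG p).comap (emb f)).comap (pullback.fst (ps f) (pt k).hom)

/-- The set of `k`-points of the Hilbert scheme of `V_+(f)` classifying smooth connected curves of genus `g` and
degree `d` (verbatim the set `T` of the rows S16527, S16528, S16529). -/
def curveSet (f : LefPen.Form 4 k 3) (H : Over (Spec (CommRingCat.of k))) (Z : FGA.HilbSet (ps f) H) (g : ℕ)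
    (d : ℤ) : Set ↥H.left :=
  {x | ∃ (h : Over.mk (𝟙 (Spec (CommRingCat.of k))) ⟶ H) (C : Scheme.{u}) (p : C ⟶ Spec (CommRingCat.of k))
      (i : C ⟶ (LefPen.hypIdeal f).subscheme),
      x = h.left.base (IsLocalRing.closedPoint k) ∧ IsClosedImmersion i ∧
      i ≫ (LefPen.hypIdeal f).subschemeι ≫ CohB1.ProjSpace.toSpec 4 k = p ∧
      Smooth p ∧ IsProper p ∧ IsIntegral C ∧ topologicalKrullDim C = 1 ∧
      @Curv2.genus k _ C ⟨p⟩ = g ∧
      @Curv2.deg k _ C ⟨p⟩ ((Scheme.Modules.pullback (i ≫ (LefPen.hypIdeal f).subschemeι)).obj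
        (Twist.twistProjSpace 4 k 1)) 1 = d ∧
      FGA.hilbPull ((LefPen.hypIdeal f).subschemeι ≫ CohB1.ProjSpace.toSpec 4 k) h Z.1 =
        i.ker.comap (pullback.fst ((LefPen.hypIdeal f).subschemeι ≫ CohB1.ProjSpace.toSpec 4 k) (Over.mk (𝟙 (Spec (CommRingCat.of k)))).hom)}

end Groth.Agent.Fano.K715.Quint
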