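import Groth.Agent.Fano.K715.Geo
import Groth.Agent.CalgC.DimFT
import Mathlib.Topology.KrullDimension

/-!
# If `dim V_+(m, q) = 2` in `P^4` then `m ∤ q`
-/

set_option autoImplicit false

universe u

open CategoryTheory CategoryTheory.Limits AlgebraicGeometry TopologicalSpace Opposite MvPolynomial

namespace K715.Dim

open LefPen K715.LinForms K715.HBAlg K715.HBRing K715.Geo
open Groth.Agent.Lefpen.H705.HypIdeal Groth.Agent.Lefpen.H705.ChartPoly Groth.Agent.Sga5
open Groth.Agent.Fdesc.LocGen

variable {k : Type u} [Field k]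

/-- A linear form has a zero on some chart. -/
theorem exists_zero {n : ℕ} (hn : 0 < n) (m : Form n k 1) :
    ∃ (j : Fin (n + 1)) (a : Fin n → k), aeval a (ProjChart.dehom n k j m.1) = 0 := by
  have hm : m.1 = ∑ i, C (coeff (Finsupp.single i 1) m.1) * X i := by
    have h1 : m.1 ∈ Submodule.span k (Set.range (X : Fin (n + 1) → MvPolynomial (Fin (n + 1)) k)) := by
      rw [← homogeneousSubmodule_one_eq_span_X]; exact m.2
    obtain ⟨c, hc⟩ := (Submodule.mem_span_range_iff_exists_fun k).mp h1
    have h2 : ∀ i, coeff (Finsupp.single i 1) m.1 = c i := by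
      intro i
      rw [← hc, coeff_sum]
      simp only [coeff_smul, coeff_X]
      rw [Finset.sum_eq_single i]
      · simp
      · intro b _ hb
        rw [if_neg (fun h => hb (Finsupp.single_left_injective one_ne_zero h)), smul_zero]
      · simp
    simp_rw [h2]
    rw [← hc]
    exact Finset.sum_congr rfl fun i _ => by rw [smul_eq_C_mul]
  set c : Fin (n + 1) → k := fun i => coeff (Finsupp.single i 1) m.1 with hc
  -- a nonzero vector in the kernel
  have key : ∃ v : Fin (n + 1) → k, v ≠ 0 ∧ ∑ i, c i * v i = 0 := by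
    let φ : (Fin (n + 1) → k) →ₗ[k] k := Fintype.linearCombination k c
    have h3 : ¬ Function.Injective φ := by
      intro h
      have := LinearMap.finrank_le_finrank_of_injective h
      simp at this
      omega
    rw [← LinearMap.ker_eq_bot, Submodule.eq_bot_iff] at h3
    push Not at h3
    obtain ⟨v, hv, hv0⟩ := h3
    refine ⟨v, hv0, ?_⟩
    have : φ v = 0 := hv
    rw [Fintype.linearCombination_apply] at this
    simpa [mul_comm] using this
  obtain ⟨v, hv0, hv⟩ := key
  obtain ⟨j, hj⟩ := Function.ne_iff.mp hv0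
  simp only [Pi.zero_apply] at hj
  refine ⟨j, fun l => (v j)⁻¹ * v (j.succAbove l), ?_⟩
  have h4 : ∀ i, aeval (fun l => (v j)⁻¹ * v (j.succAbove l)) (ProjChart.dehom n k j (X i)) = (v j)⁻¹ * v i := by
    intro i
    rcases Fin.eq_self_or_eq_succAbove j i with rfl | ⟨l, rfl⟩
    · rw [ProjChart.dehom_X_self, map_one, inv_mul_cancel₀ hj]
    · rw [ProjChart.dehom_X, aeval_X]
  rw [hm, map_sum, map_sum]
  have h5 : ∀ i, aeval (fun l => (v j)⁻¹ * v (j.succAbove l)) (ProjChart.dehom n k j
      (C (coeff (Finsupp.single i 1) m.1) * X i)) = (v j)⁻¹ * (c i * v i) := by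
    intro i
    rw [map_mul, map_mul, ProjChart.dehom_C, h4]
    simp [hc]
    ring
  simp_rw [h5]
  rw [← Finset.mul_sum, hv, mul_zero]

/-- The quotient of `k[x_1, …, x_n]` by a polynomial with a zero has dimension at least `n - 1`. -/
theorem le_dim_quotient {n : ℕ} (p : MvPolynomial (Fin n) k) (a : Fin n → k) (ha : aeval a p = 0) :
    (n : WithBot ℕ∞) ≤ ringKrullDim (MvPolynomial (Fin n) k ⧸ Ideal.span {p}) + 1 := by
  let f : MvPolynomial (Fin n) k →ₐ[k] k := aeval a
  have hf : Function.Surjective f := fun c => ⟨C c, by simp [f]⟩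
  have : (RingHom.ker f.toRingHom).IsMaximal := RingHom.ker_isMaximal_of_surjective _ hf
  have h1 := Ideal.height_le_ringKrullDim_quotient_add_one (r := p) (p := RingHom.ker f.toRingHom) ha
  rw [Groth.Agent.CalgC.DimFT.height_mvPolynomial_isMaximal] at h1
  exact_mod_cast h1

theorem not_dvd {n d : ℕ} (hn : 0 < n) (m : Form n k 1) (q : Form n k d)
    (hdim : topologicalKrullDim ↥(hypIdeal m ⊔ hypIdeal q).subscheme + 1 < n) : ¬ m.1 ∣ q.1 := by
  intro hdvd
  obtain ⟨j, a, ha⟩ := exists_zero hn m
  let I := hypIdeal m ⊔ hypIdeal q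
  let U : (CohB1.ProjSpace n k).affineOpens := ⟨chart n k j, isAffineOpen_chart j⟩
  have hI : I.ideal U = Ideal.span {rho j (le_refl (chart n k j)) m.1} := by
    have h1 : I.ideal U = (hypIdeal m).ideal U ⊔ (hypIdeal q).ideal U := rfl
    rw [h1, ideal_hyp j U le_rfl m, ideal_hyp j U le_rfl q]
    apply sup_eq_left.mpr
    rw [Ideal.span_singleton_le_span_singleton]
    exact map_dvd _ hdvd
  have e : (MvPolynomial (Fin n) k ⧸ Ideal.span {ProjChart.dehom n k j m.1}) ≃+*
      (Γ(CohB1.ProjSpace n k, chart n k j) ⧸ I.ideal U) := by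
    refine Ideal.quotientEquiv _ _ (RingEquiv.ofBijective _ (polyToChart_bijective (r := n) (k := k) j)) ?_
    rw [hI, Ideal.map_span, Set.image_singleton]
    congr 1
  have h2 : topologicalKrullDim (Spec (.of (Γ(CohB1.ProjSpace n k, chart n k j) ⧸ I.ideal U))) ≤
      topologicalKrullDim I.subscheme :=
    (I.subschemeCover.f U).isOpenEmbedding.isInducing.topologicalKrullDim_le
  have h3 : ringKrullDim (Γ(CohB1.ProjSpace n k, chart n k j) ⧸ I.ideal U) ≤ topologicalKrullDim I.subscheme := by
    refine le_trans (le_of_eq ?_) h2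
    exact (PrimeSpectrum.topologicalKrullDim_eq_ringKrullDim _).symm
  have h4 := le_dim_quotient _ a ha
  rw [ringKrullDim_eq_of_ringEquiv e] at h4
  have h5 := h4.trans (add_le_add_left h3 1)
  exact absurd (lt_of_le_of_lt h5 hdim) (lt_irrefl _)

end K715.Dim
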