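import Groth.Agent.Fano.K715.Res2
import Groth.Agent.Sga67.TwistProj

/-!
# Cohomology of the twists of the ideal sheaf of a plane union a quadric
-/

set_option autoImplicit false

universe u

open CategoryTheory CategoryTheory.Limits AlgebraicGeometry TopologicalSpace Opposite

namespace K715.CohV

open LefPen K715.LinForms K715.HBAlg K715.HBRing K715.Geo K715.Gens K715.Pair K715.Res K715.Res2
open Groth.Agent Groth.Agent.Sga67.TwistProj

theorem hh_biprod {X : Scheme.{u}} {A B : X.Modules} (q : ℕ) (hA : Subsingleton (Coh.HH X A q))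
    (hB : Subsingleton (Coh.HH X B q)) : Subsingleton (Coh.HH X (A ⊞ B) q) :=
  Fga.HShift.subsingleton₂ (T := ShortComplex.mk (biprod.inl : A ⟶ A ⊞ B) (biprod.snd : A ⊞ B ⟶ B) (by simp))
    (ShortComplex.Splitting.ofHasBinaryBiproduct A B).shortExact q hA hB

variable {n : ℕ} {k : Type u} [Field k]

theorem hh_tA_OO (i d : ℤ) (q : ℕ) (h₀ : ¬ (q = 0 ∧ 0 ≤ i + d)) (hn : ¬ (q = n ∧ i + d ≤ -((n : ℤ) + 1))) :
    Subsingleton (Coh.HH (CohB1.ProjSpace n k) ((tA n k i).obj (OO n k d)) q) := by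
  obtain ⟨e⟩ := nonempty_mul n k i d
  exact Fga.HShift.subsingleton_of_iso e.symm q (S0844.result k n (i + d) q h₀ hn)

theorem hh_tA_biprod (i : ℤ) {A B : (CohB1.ProjSpace n k).Modules} (q : ℕ)
    (hA : Subsingleton (Coh.HH _ ((tA n k i).obj A) q))
    (hB : Subsingleton (Coh.HH _ ((tA n k i).obj B) q)) :
    Subsingleton (Coh.HH _ ((tA n k i).obj (A ⊞ B)) q) :=
  Fga.HShift.subsingleton₂ (shortExact_tA (T := ShortComplex.mk (biprod.inl : A ⟶ A ⊞ B)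
    (biprod.snd : A ⊞ B ⟶ B) (by simp))
    (ShortComplex.Splitting.ofHasBinaryBiproduct A B).shortExact i) q hA hB

theorem hh_F0 (i : ℤ) (q : ℕ) (h₀ : ¬ (q = 0 ∧ 0 ≤ i - 2)) (hn : ¬ (q = n ∧ i - 2 ≤ -((n : ℤ) + 1))) :
    Subsingleton (Coh.HH (CohB1.ProjSpace n k) ((tA n k i).obj (F0 n k)) q) :=
  hh_tA_biprod i q (hh_tA_OO i (-2) q h₀ hn) (hh_tA_biprod i q (hh_tA_OO i (-2) q h₀ hn) (hh_tA_OO i (-2) q h₀ hn))

theorem hh_F1 (i : ℤ) (q : ℕ) (h₀ : ¬ (q = 0 ∧ 0 ≤ i - 3)) (hn : ¬ (q = n ∧ i - 3 ≤ -((n : ℤ) + 1))) :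
    Subsingleton (Coh.HH (CohB1.ProjSpace n k) ((tA n k i).obj (F1 n k)) q) :=
  hh_tA_biprod i q (hh_tA_OO i (-3) q h₀ hn) (hh_tA_OO i (-3) q h₀ hn)

variable {l₁ l₂ m a b : Form n k 1} {q : Form n k 2} {c : Form n k 1}
  (hq : q.1 = a.1 * l₁.1 + b.1 * l₂.1 + c.1 * m.1) (H : HB l₁.1 l₂.1 m.1 a.1 b.1)

include hq H in
/-- Vanishing of `H^i(I(d))` for `i ≥ 1` and `d ≥ 2 - n + …`. -/
theorem hh_ideal (d : ℤ) (i : ℕ) (hi : 1 ≤ i) (hd : 3 - (n : ℤ) ≤ d) :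
    Subsingleton (Coh.HH (CohB1.ProjSpace n k) ((tA n k d).obj (ClSub.idealMod (II l₁ l₂ m q))) i) :=
  Fga.HShift.subsingleton₃ (shortExact_tA (shortExact_SC hq H) d) i
    (hh_F0 d i (by omega) (by omega)) (hh_F1 d (i + 1) (by omega) (by omega))

end K715.CohV
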