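import Groth.Agent.Fano.K715.Pair

/-!
# The Hilbert–Burch resolution of the ideal sheaf of a plane union a quadric
-/

set_option autoImplicit false

universe u

open CategoryTheory CategoryTheory.Limits AlgebraicGeometry TopologicalSpace Opposite

namespace K715.Res

open LefPen K715.LinForms K715.HBAlg K715.HBRing K715.Geo K715.Gens K715.Pair
open Groth.Agent.Lefpen.H705.HypIdeal Groth.Agent.Lefpen.H705.ChartPoly
open Groth.Agent.Fdesc.LocGen Groth.Agent.FormalB.TwistGen Groth.Agent.PerfB.TwistMul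
open Groth.Agent.PerfA.IdealModule

variable {n : ℕ} {k : Type u} [Field k]

/-! ### `O(0) = O` -/

theorem exists_one : ∃ s : Γ(OO n k 0, ⊤), ∀ x : (⊤ : (CohB1.ProjSpace n k).Opens), vl s x = 1 := by
  have hglue := res_glue (OO n k 0) (fun j : Fin (n + 1) => chart n k j) (fun j => le_top)
    (by rw [iSup_chart]) (fun j => eg j 0 le_rfl) (fun i j => by
      apply vl_ext
      intro x
      rw [vl_res, vl_res, vl_eg, vl_eg, pw, pw]
      simp)
  obtain ⟨s, hs⟩ := hglue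
  refine ⟨s, fun x => ?_⟩
  have hx : x.1 ∈ (⨆ j : Fin (n + 1), chart n k j) := by rw [iSup_chart]; trivial
  obtain ⟨j, hj⟩ := Opens.mem_iSup.mp hx
  have h1 : vl s x = vl (res (OO n k 0) le_top s) ⟨x.1, hj⟩ := rfl
  rw [h1, hs j, vl_eg, pw]
  rw [← Localization.mk_one, Localization.mk_eq_mk_iff, Localization.r_iff_exists]
  exact ⟨1, by simp⟩

/-- The unit section of `O(0)`. -/
noncomputable def u0 (n : ℕ) (k : Type u) [Field k] : Γ(OO n k 0, ⊤) := (exists_one (n := n) (k := k)).choose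

theorem vl_u0 (x : (⊤ : (CohB1.ProjSpace n k).Opens)) : vl (u0 n k) x = 1 :=
  (exists_one (n := n) (k := k)).choose_spec x

theorem res_u0 (j : Fin (n + 1)) {U : (CohB1.ProjSpace n k).Opens} (hU : U ≤ chart n k j) :
    res (OO n k 0) le_top (u0 n k) = eg j 0 hU := by
  apply vl_ext
  intro x
  rw [vl_res, vl_eg, vl_u0, pw]
  rw [← Localization.mk_one, Localization.mk_eq_mk_iff, Localization.r_iff_exists]
  exact ⟨1, by simp⟩

/-- `O ≅ O(0)`. -/
noncomputable def unitO (n : ℕ) (k : Type u) [Field k] : Coh.structureModule (CohB1.ProjSpace n k) ⟶ OO n k 0 :=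
  homOf (u0 n k)

instance isIso_unitO : IsIso (unitO n k) := by
  rw [unitO, isIso_iff_isGen, sec_homOf]
  refine IsGen.of_cover (fun j : Fin (n + 1) => chart n k j) (fun j => le_top) (by rw [iSup_chart]) fun j => ?_
  rw [res_res]
  rw [res_u0 j le_rfl]
  exact isGen_eg j 0 le_rfl

theorem unitO_app (j : Fin (n + 1)) {U : (CohB1.ProjSpace n k).Opens} (hU : U ≤ chart n k j)
    (f : Γ(CohB1.ProjSpace n k, U)) : (unitO n k).app U (ofFun f) = f • eg j 0 hU := by
  rw [unitO, homOf_app, res_u0 j hU]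

theorem inv_unitO_app (j : Fin (n + 1)) {U : (CohB1.ProjSpace n k).Opens} (hU : U ≤ chart n k j)
    (f : Γ(CohB1.ProjSpace n k, U)) : (inv (unitO n k)).app U (f • eg j 0 hU) = ofFun f := by
  rw [← unitO_app]
  change (unitO n k ≫ inv (unitO n k)).app U (ofFun f) = ofFun f
  rw [IsIso.hom_inv_id]; rfl

/-- Multiplication `O(-d) → O` by a form of degree `d`. -/
noncomputable def mulO {d : ℕ} (G : Form n k d) (a : ℤ) (h : 0 = a + d) :
    OO n k a ⟶ Coh.structureModule (CohB1.ProjSpace n k) := mulF G a 0 h ≫ inv (unitO n k)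

theorem mulO_eg {d : ℕ} (G : Form n k d) (a : ℤ) (h : 0 = a + d) (j : Fin (n + 1))
    {U : (CohB1.ProjSpace n k).Opens} (hU : U ≤ chart n k j) (x : Γ(CohB1.ProjSpace n k, U)) :
    (mulO G a h).app U (x • eg j a hU) = ofFun (x * rho j hU G.1) := by
  change (inv (unitO n k)).app U ((mulF G a 0 h).app U (x • eg j a hU)) = _
  rw [Scheme.Modules.Hom.app_smul, mulF_eg, smul_smul, inv_unitO_app]

theorem mulF_smul_eg {d : ℕ} (G : Form n k d) (a b : ℤ) (h : b = a + d) (j : Fin (n + 1))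
    {U : (CohB1.ProjSpace n k).Opens} (hU : U ≤ chart n k j) (x : Γ(CohB1.ProjSpace n k, U)) :
    (mulF G a b h).app U (x • eg j a hU) = (x * rho j hU G.1) • eg j b hU := by
  rw [Scheme.Modules.Hom.app_smul, mulF_eg, smul_smul]

/-! ### The maps -/

variable (l₁ l₂ m a b : Form n k 1)

/-- Product of linear forms. -/
noncomputable def fmul (l l' : Form n k 1) : Form n k 2 := ⟨l.1 * l'.1, SetLike.mul_mem_graded l.2 l'.2⟩

/-- `q' = a l₁ + b l₂`. -/
noncomputable def qf : Form n k 2 := ⟨a.1 * l₁.1 + b.1 * l₂.1, add_mem (fmul a l₁).2 (fmul b l₂).2⟩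

/-- `F₀ = O(-2)³`. -/
noncomputable abbrev F0 (n : ℕ) (k : Type u) [Field k] : (CohB1.ProjSpace n k).Modules :=
  OO n k (-2) ⊞ (OO n k (-2) ⊞ OO n k (-2))

/-- `F₁ = O(-3)²`. -/
noncomputable abbrev F1 (n : ℕ) (k : Type u) [Field k] : (CohB1.ProjSpace n k).Modules :=
  OO n k (-3) ⊞ OO n k (-3)

/-- `φ : F₁ → F₀`. -/
noncomputable def phi : F1 n k ⟶ F0 n k :=
  biprod.desc
    (biprod.lift (mulF m (-3) (-2) (by norm_num))
      (biprod.lift (-mulF a (-3) (-2) (by norm_num)) (-mulF b (-3) (-2) (by norm_num))))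
    (biprod.lift 0 (biprod.lift (mulF l₂ (-3) (-2) (by norm_num)) (-mulF l₁ (-3) (-2) (by norm_num))))

/-- `ψ : F₀ → O`. -/
noncomputable def psi0 : F0 n k ⟶ Coh.structureModule (CohB1.ProjSpace n k) :=
  biprod.desc (mulO (qf l₁ l₂ a b) (-2) (by norm_num))
    (biprod.desc (mulO (fmul m l₁) (-2) (by norm_num)) (mulO (fmul m l₂) (-2) (by norm_num)))

section coords

variable (j : Fin (n + 1)) {U : (CohB1.ProjSpace n k).Opens} (hU : U ≤ chart n k j)

/-- Sections of `F₀` with coordinates `x y z`. -/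
noncomputable def s0 (x y z : Γ(CohB1.ProjSpace n k, U)) : Γ(F0 n k, U) :=
  pair (x • eg j (-2) hU) (pair (y • eg j (-2) hU) (z • eg j (-2) hU))

/-- Sections of `F₁` with coordinates `s t`. -/
noncomputable def s1 (s t : Γ(CohB1.ProjSpace n k, U)) : Γ(F1 n k, U) :=
  pair (s • eg j (-3) hU) (t • eg j (-3) hU)

theorem exists_s0 (w : Γ(F0 n k, U)) : ∃ x y z, w = s0 j hU x y z := by
  obtain ⟨w1, w2, rfl⟩ := exists_pair w
  obtain ⟨w2, w3, rfl⟩ := exists_pair w2
  obtain ⟨x, rfl⟩ := exists_smul_eg j hU w1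
  obtain ⟨y, rfl⟩ := exists_smul_eg j hU w2
  obtain ⟨z, rfl⟩ := exists_smul_eg j hU w3
  exact ⟨x, y, z, rfl⟩

theorem exists_s1 (w : Γ(F1 n k, U)) : ∃ s t, w = s1 j hU s t := by
  obtain ⟨w1, w2, rfl⟩ := exists_pair w
  obtain ⟨x, rfl⟩ := exists_smul_eg j hU w1
  obtain ⟨y, rfl⟩ := exists_smul_eg j hU w2
  exact ⟨x, y, rfl⟩

theorem s0_inj {x y z x' y' z' : Γ(CohB1.ProjSpace n k, U)} (h : s0 j hU x y z = s0 j hU x' y' z') :
    x = x' ∧ y = y' ∧ z = z' := by
  rw [s0, s0, pair_inj, pair_inj] at h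
  exact ⟨smul_eg_injective j hU h.1, smul_eg_injective j hU h.2.1, smul_eg_injective j hU h.2.2⟩

theorem s1_inj {x y x' y' : Γ(CohB1.ProjSpace n k, U)} (h : s1 j hU x y = s1 j hU x' y') :
    x = x' ∧ y = y' := by
  rw [s1, s1, pair_inj] at h
  exact ⟨smul_eg_injective j hU h.1, smul_eg_injective j hU h.2⟩

theorem s0_zero : s0 j hU 0 0 0 = 0 := by
  rw [s0, zero_smul, pair_zero, pair_zero]

theorem s1_zero : s1 j hU 0 0 = 0 := by
  rw [s1, zero_smul, pair_zero]

theorem smul_s0 (r x y z : Γ(CohB1.ProjSpace n k, U)) : r • s0 j hU x y z = s0 j hU (r * x) (r * y) (r * z) := by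
  rw [s0, s0, smul_pair, smul_pair, smul_smul, smul_smul, smul_smul]

theorem smul_s1 (r x y : Γ(CohB1.ProjSpace n k, U)) : r • s1 j hU x y = s1 j hU (r * x) (r * y) := by
  rw [s1, s1, smul_pair, smul_smul, smul_smul]

theorem s0_add (x y z x' y' z' : Γ(CohB1.ProjSpace n k, U)) :
    s0 j hU x y z + s0 j hU x' y' z' = s0 j hU (x + x') (y + y') (z + z') := by
  rw [s0, s0, s0, pair_add, pair_add, add_smul, add_smul, add_smul]

theorem s1_add (x y x' y' : Γ(CohB1.ProjSpace n k, U)) :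
    s1 j hU x y + s1 j hU x' y' = s1 j hU (x + x') (y + y') := by
  rw [s1, s1, s1, pair_add, add_smul, add_smul]

theorem phi_s1 (s t : Γ(CohB1.ProjSpace n k, U)) :
    (phi l₁ l₂ m a b).app U (s1 j hU s t) =
      s0 j hU (s * rho j hU m.1) (-(s * rho j hU a.1) + t * rho j hU l₂.1)
        (-(s * rho j hU b.1) - t * rho j hU l₁.1) := by
  rw [s1, phi, desc_pair, lift_app, lift_app, lift_app, lift_app, pair_add, pair_add, s0]
  have hneg : ∀ (G : Form n k 1) (x : Γ(CohB1.ProjSpace n k, U)),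
      (-mulF G (-3) (-2) (by norm_num)).app U (x • eg j (-3) hU) = (-(x * rho j hU G.1)) • eg j (-2) hU := by
    intro G x
    change -((mulF G (-3) (-2) (by norm_num)).app U (x • eg j (-3) hU)) = _
    rw [mulF_smul_eg, neg_smul]
  congr 1
  · rw [mulF_smul_eg]
    change _ + 0 = _
    rw [add_zero]
  · congr 1
    · rw [hneg, mulF_smul_eg, ← add_smul]
    · rw [hneg, hneg, ← add_smul, sub_eq_add_neg]

theorem psi0_s0 (x y z : Γ(CohB1.ProjSpace n k, U)) :
    (psi0 l₁ l₂ m a b).app U (s0 j hU x y z) =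
      ofFun (x * (rho j hU a.1 * rho j hU l₁.1 + rho j hU b.1 * rho j hU l₂.1) +
        y * (rho j hU m.1 * rho j hU l₁.1) + z * (rho j hU m.1 * rho j hU l₂.1)) := by
  rw [s0, psi0, desc_pair, desc_pair, mulO_eg, mulO_eg, mulO_eg, ← map_add, ← map_add]
  congr 1
  simp only [qf, fmul, map_add, map_mul]
  ring

end coords

end K715.Res
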