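import Groth.Agent.Fano.K715.Res

/-!
# Exactness of `0 → O(-3)² → O(-2)³ → I → 0`
-/

set_option autoImplicit false

universe u

open CategoryTheory CategoryTheory.Limits AlgebraicGeometry TopologicalSpace Opposite

namespace K715.Res2

open LefPen K715.LinForms K715.HBAlg K715.HBRing K715.Geo K715.Gens K715.Pair K715.Res
open Groth.Agent.Lefpen.H705.HypIdeal Groth.Agent.Lefpen.H705.ChartPoly
open Groth.Agent.Fdesc.LocGen Groth.Agent.FormalB.TwistGen Groth.Agent.PerfB.TwistMul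
open Groth.Agent.PerfA.IdealModule

variable {n : ℕ} {k : Type u} [Field k] (l₁ l₂ m a b : Form n k 1) (q : Form n k 2)

/-- The ideal sheaf of `Σ = V₊(l₁, l₂) ∪ V₊(m, q)`. -/
noncomputable abbrev II : (CohB1.ProjSpace n k).IdealSheafData := (hypIdeal l₁ ⊔ hypIdeal l₂) ⊓ (hypIdeal m ⊔ hypIdeal q)

variable {l₁ l₂ m a b q} {c : Form n k 1} (hq : q.1 = a.1 * l₁.1 + b.1 * l₂.1 + c.1 * m.1)
  (H : HB l₁.1 l₂.1 m.1 a.1 b.1)

include hq H in
theorem ideal_II (j : Fin (n + 1)) (V : (CohB1.ProjSpace n k).affineOpens) (hV : V.1 ≤ chart n k j) :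
    (II l₁ l₂ m q).ideal V =
      Ideal.span {rho j hV a.1 * rho j hV l₁.1 + rho j hV b.1 * rho j hV l₂.1,
        rho j hV m.1 * rho j hV l₁.1, rho j hV m.1 * rho j hV l₂.1} := by
  rw [← (hb_affine j hV V.2 H).inf_eq]
  have h1 : (II l₁ l₂ m q).ideal V = ((hypIdeal l₁).ideal V ⊔ (hypIdeal l₂).ideal V) ⊓
      ((hypIdeal m).ideal V ⊔ (hypIdeal q).ideal V) := rfl
  rw [h1, ideal_hyp j V hV, ideal_hyp j V hV, ideal_hyp j V hV, ideal_hyp j V hV]
  congr 1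
  · rw [Ideal.span_insert]
  · rw [← Ideal.span_insert, hq, map_add, map_add, map_mul, map_mul, map_mul]
    apply le_antisymm
    · rw [Ideal.span_le]
      rintro x (rfl | rfl)
      · exact Ideal.subset_span (by simp)
      · refine add_mem (Ideal.subset_span (by simp)) ?_
        exact Ideal.mul_mem_left _ _ (Ideal.subset_span (by simp))
    · rw [Ideal.span_le]
      rintro x (rfl | rfl)
      · exact Ideal.subset_span (by simp)
      · have h2 : rho j hV a.1 * rho j hV l₁.1 + rho j hV b.1 * rho j hV l₂.1 =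
            (rho j hV a.1 * rho j hV l₁.1 + rho j hV b.1 * rho j hV l₂.1 + rho j hV c.1 * rho j hV m.1) -
              rho j hV c.1 * rho j hV m.1 := by ring
        rw [SetLike.mem_coe, h2]
        exact sub_mem (Ideal.subset_span (by simp)) (Ideal.mul_mem_left _ _ (Ideal.subset_span (by simp)))

include hq H in
theorem mem_II_iff (j : Fin (n + 1)) {V : (CohB1.ProjSpace n k).Opens} (hV : Small j V)
    (f : Γ(CohB1.ProjSpace n k, V)) :
    f ∈ (II l₁ l₂ m q).ideal ⟨V, hV.1⟩ ↔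
      ∃ x y z, f = x * (rho j hV.2 a.1 * rho j hV.2 l₁.1 + rho j hV.2 b.1 * rho j hV.2 l₂.1) +
        y * (rho j hV.2 m.1 * rho j hV.2 l₁.1) + z * (rho j hV.2 m.1 * rho j hV.2 l₂.1) := by
  rw [ideal_II hq H j ⟨V, hV.1⟩ hV.2, Ideal.mem_span_insert]
  constructor
  · rintro ⟨x, g, hg, rfl⟩
    obtain ⟨y, z, rfl⟩ := Ideal.mem_span_pair.mp hg
    exact ⟨x, y, z, by ring⟩
  · rintro ⟨x, y, z, rfl⟩
    exact ⟨x, _, Ideal.mem_span_pair.mpr ⟨y, z, rfl⟩, by ring⟩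

include hq H in
theorem psi0_toSubscheme : psi0 l₁ l₂ m a b ≫ ClSub.toSubscheme (II l₁ l₂ m q) = 0 := by
  refine hom_eq_zero _ fun j V hV s => ?_
  obtain ⟨x, y, z, rfl⟩ := exists_s0 j hV.2 s
  change (ClSub.toSubscheme (II l₁ l₂ m q)).app V ((psi0 l₁ l₂ m a b).app V (s0 j hV.2 x y z)) = 0
  rw [psi0_s0]
  set f := x * (rho j hV.2 a.1 * rho j hV.2 l₁.1 + rho j hV.2 b.1 * rho j hV.2 l₂.1) +
        y * (rho j hV.2 m.1 * rho j hV.2 l₁.1) + z * (rho j hV.2 m.1 * rho j hV.2 l₂.1) with hf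
  have h1 : f ∈ (II l₁ l₂ m q).ideal ⟨V, hV.1⟩ := (mem_II_iff hq H j hV f).mpr ⟨x, y, z, rfl⟩
  rw [← (II l₁ l₂ m q).ker_subschemeι_app, RingHom.mem_ker] at h1
  exact h1

/-- `ψ : F₀ → I`. -/
noncomputable def psi : F0 n k ⟶ ClSub.idealMod (II l₁ l₂ m q) :=
  kernel.lift _ (psi0 l₁ l₂ m a b) (psi0_toSubscheme hq H)

theorem psi_ι : psi hq H ≫ ClSub.idealModι (II l₁ l₂ m q) = psi0 l₁ l₂ m a b := kernel.lift_ι _ _ _

theorem val_psi {U : (CohB1.ProjSpace n k).Opens} (w : Γ(F0 n k, U)) :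
    (val (II l₁ l₂ m q) ((psi hq H).app U w) : Γ(CohB1.ProjSpace n k, U)) =
      ofFun.symm ((psi0 l₁ l₂ m a b).app U w) := by
  have h : (ClSub.idealModι (II l₁ l₂ m q)).app U ((psi hq H).app U w) = (psi0 l₁ l₂ m a b).app U w := by
    rw [← psi_ι hq H]; rfl
  exact h

theorem psi_s0 (j : Fin (n + 1)) {U : (CohB1.ProjSpace n k).Opens} (hU : U ≤ chart n k j)
    (x y z : Γ(CohB1.ProjSpace n k, U)) :
    (val (II l₁ l₂ m q) ((psi hq H).app U (s0 j hU x y z)) : Γ(CohB1.ProjSpace n k, U)) =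
      x * (rho j hU a.1 * rho j hU l₁.1 + rho j hU b.1 * rho j hU l₂.1) +
        y * (rho j hU m.1 * rho j hU l₁.1) + z * (rho j hU m.1 * rho j hU l₂.1) := by
  rw [val_psi, psi0_s0]; rfl

theorem phi_psi : phi l₁ l₂ m a b ≫ psi hq H = 0 := by
  refine hom_eq_zero _ fun j V hV w => ?_
  obtain ⟨s, t, rfl⟩ := exists_s1 j hV.2 w
  change (psi hq H).app V ((phi l₁ l₂ m a b).app V (s1 j hV.2 s t)) = 0
  apply val_injective
  rw [phi_s1, psi_s0, val_zero]
  ring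

/-- The short complex `F₁ → F₀ → I`. -/
noncomputable def SC : ShortComplex (CohB1.ProjSpace n k).Modules :=
  ShortComplex.mk (phi l₁ l₂ m a b) (psi hq H) (phi_psi hq H)

theorem shortExact_SC : (SC hq H).ShortExact where
  exact := by
    refine exact_of_small _ fun j V hV w hw => ?_
    obtain ⟨x, y, z, rfl⟩ := exists_s0 j hV.2 w
    have h1 := psi_s0 hq H j hV.2 x y z
    have h2 : (psi hq H).app V (s0 j hV.2 x y z) = 0 := hw
    rw [h2, val_zero] at h1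
    obtain ⟨s, t, h3, h4, h5⟩ := (hb_affine j hV.2 hV.1 H).syz x y z h1.symm
    refine ⟨s1 j hV.2 s t, ?_⟩
    change (phi l₁ l₂ m a b).app V (s1 j hV.2 s t) = _
    rw [phi_s1, h3, h4, h5]
  mono_f := by
    refine mono_of_small _ fun j V hV w hw => ?_
    change Γ(F1 n k, V) at w
    obtain ⟨s, t, rfl⟩ := exists_s1 j hV.2 w
    have h1 : (phi l₁ l₂ m a b).app V (s1 j hV.2 s t) = 0 := hw
    rw [phi_s1, ← s0_zero j hV.2] at h1
    obtain ⟨h2, h3, h4⟩ := s0_inj j hV.2 h1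
    obtain ⟨rfl, rfl⟩ := (hb_affine j hV.2 hV.1 H).inj s t h2 h3 h4
    exact s1_zero j hV.2
  epi_g := by
    refine epi_of_small _ fun j V hV y => ?_
    obtain ⟨x, y', z, h⟩ := (mem_II_iff hq H j hV _).mp (val_mem (II l₁ l₂ m q) ⟨V, hV.1⟩ y)
    refine ⟨s0 j hV.2 x y' z, ?_⟩
    apply val_injective
    exact (psi_s0 hq H j hV.2 x y' z).trans h.symm

end K715.Res2
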