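import Groth.Agent.Fano.K715.HomIO
import Groth.Agent.Fano.K715.CohV
import Groth.Agent.Sga2.PnTwHom
import Groth.Agent.Sga67.ClosedTens
import Groth.Agent.CohtopA.PushClosed
import Groth.Prelude.Def_Omega2

/-!
# Cohomology of `Hom(I, O/I)` and of the normal sheaf
-/

set_option autoImplicit false

universe u

open CategoryTheory CategoryTheory.Limits AlgebraicGeometry TopologicalSpace Opposite

namespace K715.NormalH

open LefPen K715.LinForms K715.HBAlg K715.HBRing K715.Geo K715.Gens K715.Pair K715.Res K715.Res2 K715.HomSeq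
open K715.HomPn K715.HomIO K715.CohV
open Groth.Agent Groth.Agent.CohqB.HomSheaf Groth.Agent.Sga2.PnHomAdj Groth.Agent.Sga2.PnHomExact
open Groth.Agent.PerfA.IdealModule Groth.Agent.Sga67.TwistProj

/-! ### Pushforward of the internal Hom -/

/-- `f_* Hom(f^* M, P) ≅ Hom(M, f_* P)`. -/
noncomputable def pushHom {X Y : Scheme.{u}} (f : Y ⟶ X) (M : X.Modules) :
    homF ((Scheme.Modules.pullback f).obj M) ⋙ Scheme.Modules.pushforward f ≅
      Scheme.Modules.pushforward f ⋙ homF M :=
  Adjunction.rightAdjointUniq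
    ((Scheme.Modules.pullbackPushforwardAdjunction f).comp (homAdj ((Scheme.Modules.pullback f).obj M)))
    (((homAdj M).comp (Scheme.Modules.pullbackPushforwardAdjunction f)).ofNatIsoLeft
      (Sga67.ClosedTens.muIso f M))

/-- `i_*` for a closed immersion does not change cohomology. -/
theorem hh_of_pushforward {Z Y : Scheme.{u}} (i : Z ⟶ Y) [IsClosedImmersion i]
    (M : Z.Modules) (n : ℕ)
    (h : Subsingleton (Coh.HH Y ((Scheme.Modules.pushforward i).obj M) n)) :
    Subsingleton (Coh.HH Z M n) := by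
  have h1 := CohtopA.PushClosed.preservesFiniteColimits_push_of_isClosedEmbedding i.base
    i.isClosedEmbedding
  have e := CohtopA.PushClosed.HPushEquiv i.base (Coh.toAb M) n
  have h2 : Subsingleton (CohTop.H ((CohTop.push i.base).obj (Coh.toAb M)) n) := h
  exact e.toEquiv.subsingleton

/-- Cohomology of the normal sheaf from the cohomology of `Hom(I, O/I)`. -/
theorem hh_normal {X : Scheme.{u}} (I : X.IdealSheafData) [DCoh.HasSheafHom (Omega.conormal I.subschemeι)] (n : ℕ)
    (h : Subsingleton (Coh.HH X (homSheaf (ClSub.idealMod I) (ClSub.quotMod I)) n)) :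
    Subsingleton (Coh.HH I.subscheme
      ((DCoh.sheafHom (Omega.conormal I.subschemeι)).obj (Coh.structureModule _)) n) := by
  have hker : I.subschemeι.ker = I := I.ker_subschemeι
  have h1 : Subsingleton (Coh.HH X (homSheaf (ClSub.idealMod I.subschemeι.ker) (ClSub.quotMod I)) n) := by
    rw [hker]; exact h
  have h2 : Subsingleton (Coh.HH X ((Scheme.Modules.pushforward I.subschemeι).obj
      ((homF ((Scheme.Modules.pullback I.subschemeι).obj (ClSub.idealMod I.subschemeι.ker))).obj
        (Coh.structureModule I.subscheme))) n) :=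
    Fga.HShift.subsingleton_of_iso ((pushHom I.subschemeι (ClSub.idealMod I.subschemeι.ker)).app
      (Coh.structureModule I.subscheme)).symm n h1
  have h3 := hh_of_pushforward I.subschemeι _ n h2
  exact Fga.HShift.subsingleton_of_iso ((sheafHomIso (Omega.conormal I.subschemeι)).app
    (Coh.structureModule I.subscheme)).symm n h3

/-! ### `Hom(O(-d), M) ≅ M(d)` -/

variable {n : ℕ} {k : Type u} [Field k]

theorem hh_homSheaf_biprod {X : Scheme.{u}} {A B M : X.Modules} (q : ℕ)
    (hA : Subsingleton (Coh.HH X (homSheaf A M) q)) (hB : Subsingleton (Coh.HH X (homSheaf B M) q)) :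
    Subsingleton (Coh.HH X (homSheaf (A ⊞ B) M) q) := by
  let s := (ShortComplex.Splitting.ofHasBinaryBiproduct A B).op.map (homFL M)
  exact Fga.HShift.subsingleton₂ s.shortExact q hB hA

theorem hh_homSheaf_OO {M : (CohB1.ProjSpace n k).Modules} (d e : ℤ) (hde : -d = e) (q : ℕ)
    (h : Subsingleton (Coh.HH (CohB1.ProjSpace n k) ((tA n k e).obj M) q)) :
    Subsingleton (Coh.HH (CohB1.ProjSpace n k) (homSheaf (OO n k d) M) q) := by
  subst hde
  have h1 := (hh_iff M (-d) q).2 h
  exact Fga.HShift.subsingleton_of_iso ((Sga2.PnTwHom.homFTw n k d).app M).symm q h1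

theorem hh_homSheaf_F0 {M : (CohB1.ProjSpace n k).Modules} (q : ℕ)
    (h : Subsingleton (Coh.HH (CohB1.ProjSpace n k) ((tA n k 2).obj M) q)) :
    Subsingleton (Coh.HH (CohB1.ProjSpace n k) (homSheaf (F0 n k) M) q) := by
  have h1 := hh_homSheaf_OO (n := n) (k := k) (M := M) (-2) 2 (by norm_num) q h
  exact hh_homSheaf_biprod q h1 (hh_homSheaf_biprod q h1 h1)

theorem hh_homSheaf_F1 {M : (CohB1.ProjSpace n k).Modules} (q : ℕ)
    (h : Subsingleton (Coh.HH (CohB1.ProjSpace n k) ((tA n k 3).obj M) q)) :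
    Subsingleton (Coh.HH (CohB1.ProjSpace n k) (homSheaf (F1 n k) M) q) := by
  have h1 := hh_homSheaf_OO (n := n) (k := k) (M := M) (-3) 3 (by norm_num) q h
  exact hh_homSheaf_biprod q h1 h1

/-- `H^q(O) = 0` for `q ≥ 1`. -/
theorem hh_structure (q : ℕ) (hq1 : 1 ≤ q) :
    Subsingleton (Coh.HH (CohB1.ProjSpace n k) (Coh.structureModule (CohB1.ProjSpace n k)) q) :=
  Fga.HShift.subsingleton_of_iso (asIso (unitO n k)).symm q
    (S0844.result k n 0 q (by omega) (by omega))

variable {l₁ l₂ m a b : Form n k 1} {q : Form n k 2} {c : Form n k 1}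
  (hq : q.1 = a.1 * l₁.1 + b.1 * l₂.1 + c.1 * m.1) (H : HB l₁.1 l₂.1 m.1 a.1 b.1)

include hq H in
theorem hh_homIQ (hn : 1 ≤ n) (p : ℕ) (hp : 1 ≤ p) :
    Subsingleton (Coh.HH (CohB1.ProjSpace n k) (homSheaf (IM l₁ l₂ m q) (QM l₁ l₂ m q)) p) := by
  have hT := shortExact_ideal (II l₁ l₂ m q)
  have hS := shortExact_SC hq H
  have hA := seqA (phi_psi hq H) (w_ideal (II l₁ l₂ m q)) hS hT isQCoh_F1 isQCoh_F0 (epi_ag hq H)
  have hB := seqB (phi_psi hq H) (w_ideal (II l₁ l₂ m q)) hS hT isQCoh_F1 isQCoh_F0 isFinLocFree_F0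
    (isQCoh_idealMod _)
  have hIO : Subsingleton (Coh.HH (CohB1.ProjSpace n k)
      (homSheaf (IM l₁ l₂ m q) (Coh.structureModule (CohB1.ProjSpace n k))) p) := by
    have := isIso_unitIO hq H
    exact Fga.HShift.subsingleton_of_iso (asIso (unitIO l₁ l₂ m q)) p (hh_structure p hp)
  have h1 : Subsingleton (Coh.HH (CohB1.ProjSpace n k) (homSheaf (F1 n k) (IM l₁ l₂ m q)) p) :=
    hh_homSheaf_F1 p (hh_ideal hq H 3 p hp (by omega))
  have hK := Fga.HShift.subsingleton₂ hA p hIO h1
  have h0 : Subsingleton (Coh.HH (CohB1.ProjSpace n k) (homSheaf (F0 n k) (IM l₁ l₂ m q)) (p + 1)) :=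
    hh_homSheaf_F0 (p + 1) (hh_ideal hq H 2 (p + 1) (by omega) (by omega))
  exact Fga.HShift.subsingleton₃ hB p hK h0

end K715.NormalH
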