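import Mathlib.RingTheory.MvPolynomial.Homogeneous
import Mathlib.RingTheory.MvPolynomial.Ideal
import Mathlib.Algebra.MvPolynomial.Division
import Mathlib.LinearAlgebra.Basis.VectorSpace
import Mathlib.LinearAlgebra.LinearIndependent.Lemmas
import Mathlib.Algebra.MvPolynomial.CommRing
import Mathlib.Tactic.LinearCombination

/-!
# Linearly independent linear forms are variables up to a linear change of coordinates
-/

set_option autoImplicit false

universe u

namespace K715.LinForms

open MvPolynomial

variable {k : Type u} [Field k]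

/-- Linear forms in the variables `σ`. -/
abbrev V1 (σ : Type) (k : Type u) [Field k] : Submodule k (MvPolynomial σ k) := homogeneousSubmodule σ k 1

section Coord

variable {σ : Type} {κ : Type u} (b : Module.Basis κ k (V1 σ k))

/-- the map `X j ↦ b j`. -/
noncomputable def F : MvPolynomial κ k →ₐ[k] MvPolynomial σ k := aeval fun j => (b j).1

/-- the linear map `V₁ → k[κ]`, `b j ↦ X j`. -/
noncomputable def L : V1 σ k →ₗ[k] MvPolynomial κ k := b.constr k fun j => (X j : MvPolynomial κ k)

/-- the inverse map. -/
noncomputable def G : MvPolynomial σ k →ₐ[k] MvPolynomial κ k :=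
  aeval fun i => L b ⟨X i, (mem_homogeneousSubmodule 1 _).mpr (isHomogeneous_X k i)⟩

theorem F_L (v : V1 σ k) : F b (L b v) = v.1 := by
  have h : (F b).toLinearMap ∘ₗ L b = (V1 σ k).subtype := by
    apply b.ext
    intro j
    simp [L, F]
  exact LinearMap.congr_fun h v

theorem G_eq (v : V1 σ k) : G b v.1 = L b v := by
  have h1 : ∀ w ∈ Submodule.span k (Set.range (X : σ → MvPolynomial σ k)), ∀ hw : w ∈ V1 σ k,
      G b w = L b ⟨w, hw⟩ := by
    intro w hw
    induction hw using Submodule.span_induction with
    | mem w hw =>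
      obtain ⟨i, rfl⟩ := hw
      intro _
      simp [G]
    | zero =>
      intro _
      rw [map_zero]
      exact (map_zero (L b)).symm
    | add x y hx hy h1 h2 =>
      intro _
      have hx' : x ∈ V1 σ k := by rw [V1, homogeneousSubmodule_one_eq_span_X]; exact hx
      have hy' : y ∈ V1 σ k := by rw [V1, homogeneousSubmodule_one_eq_span_X]; exact hy
      rw [map_add, h1 hx', h2 hy', ← map_add]
      rfl
    | smul c x hx h1 =>
      intro _
      have hx' : x ∈ V1 σ k := by rw [V1, homogeneousSubmodule_one_eq_span_X]; exact hx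
      rw [map_smul, h1 hx', ← map_smul]
      rfl
  have h2 : v.1 ∈ Submodule.span k (Set.range (X : σ → MvPolynomial σ k)) := by
    rw [← homogeneousSubmodule_one_eq_span_X]; exact v.2
  exact h1 _ h2 v.2

/-- The linear change of coordinates attached to a basis of the space of linear forms. -/
noncomputable def coordEquiv : MvPolynomial κ k ≃ₐ[k] MvPolynomial σ k :=
  AlgEquiv.ofAlgHom (F b) (G b)
    (by
      apply MvPolynomial.algHom_ext
      intro i
      simp only [AlgHom.comp_apply, AlgHom.id_apply]
      rw [show G b (X i) = L b ⟨X i, (mem_homogeneousSubmodule 1 _).mpr (isHomogeneous_X k i)⟩ by simp [G], F_L])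
    (by
      apply MvPolynomial.algHom_ext
      intro j
      simp only [AlgHom.comp_apply, AlgHom.id_apply]
      rw [show F b (X j) = (b j).1 by simp [F], G_eq]
      simp [L])

theorem coordEquiv_X (j : κ) : coordEquiv b (X j) = (b j).1 := by
  simp [coordEquiv, F]

end Coord

/-- Linearly independent linear forms are, up to a linear change of coordinates, distinct variables. -/
theorem exists_coord {σ ι : Type} (v : ι → V1 σ k) (hv : LinearIndependent k v) :
    ∃ (κ : Type u) (e : MvPolynomial κ k ≃ₐ[k] MvPolynomial σ k) (i : ι → κ), Function.Injective i ∧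
      ∀ j, e (X (i j)) = (v j).1 := by
  have hs : LinearIndepOn k id (Set.range v) := hv.linearIndepOn_id
  refine ⟨_, coordEquiv (Module.Basis.extend hs),
    fun j => ⟨v j, hs.subset_extend (Set.subset_univ _) ⟨j, rfl⟩⟩, ?_, ?_⟩
  · intro j j' h
    exact hv.injective (congrArg Subtype.val h)
  · intro j
    rw [coordEquiv_X, Module.Basis.extend_apply_self]

section Vars

variable {κ : Type*}

/-- A variable is a non-zero-divisor modulo other variables. -/
theorem mem_of_X_mul_mem (s : Set κ) (c : κ) (hc : c ∉ s) (x : MvPolynomial κ k)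
    (h : X c * x ∈ Ideal.span (X '' s : Set (MvPolynomial κ k))) :
    x ∈ Ideal.span (X '' s : Set (MvPolynomial κ k)) := by
  rw [mem_ideal_span_X_image] at h ⊢
  intro m hm
  have h1 : m + Finsupp.single c 1 ∈ (X c * x).support := by
    rw [mem_support_iff, mul_comm, coeff_mul_X]
    exact mem_support_iff.mp hm
  obtain ⟨i, hi, h2⟩ := h _ h1
  refine ⟨i, hi, ?_⟩
  have : i ≠ c := fun h => hc (h ▸ hi)
  simpa [Finsupp.single_apply, this.symm] using h2

end Vars

section Forms

variable {σ ι : Type} (v : ι → V1 σ k) (hv : LinearIndependent k v)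
include hv

/-- A linear form is a non-zero-divisor modulo forms which are linearly independent from it. -/
theorem mem_of_mul_mem (s : Set ι) (c : ι) (hc : c ∉ s) (x : MvPolynomial σ k)
    (h : (v c).1 * x ∈ Ideal.span ((fun j => (v j).1) '' s)) :
    x ∈ Ideal.span ((fun j => (v j).1) '' s) := by
  obtain ⟨κ, e, i, hi, he⟩ := exists_coord v hv
  have hmap : Ideal.span ((fun j => (v j).1) '' s) =
      (Ideal.span (X '' (i '' s) : Set (MvPolynomial κ k))).map e.toRingEquiv := by
    rw [Ideal.map_span]
    congr 1
    ext y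
    simp only [Set.mem_image]
    constructor
    · rintro ⟨j, hj, rfl⟩
      exact ⟨X (i j), ⟨i j, ⟨j, hj, rfl⟩, rfl⟩, he j⟩
    · rintro ⟨_, ⟨_, ⟨j, hj, rfl⟩, rfl⟩, rfl⟩
      exact ⟨j, hj, (he j).symm⟩
  rw [hmap] at h ⊢
  have h0 : ∀ y : MvPolynomial σ k,
      y ∈ (Ideal.span (X '' (i '' s) : Set (MvPolynomial κ k))).map e.toRingEquiv ↔
        e.symm y ∈ Ideal.span (X '' (i '' s) : Set (MvPolynomial κ k)) := by
    intro y
    constructor
    · intro hy
      have := Ideal.mem_map_of_equiv e.toRingEquiv y |>.mp hy
      obtain ⟨z, hz, hzy⟩ := this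
      have : z = e.symm y := by rw [← hzy]; exact (e.symm_apply_apply z).symm
      rwa [← this]
    · intro hy
      have := Ideal.mem_map_of_mem e.toRingEquiv hy
      have h' : e.toRingEquiv (e.symm y) = y := e.apply_symm_apply y
      rwa [h'] at this
  rw [h0] at h ⊢
  refine mem_of_X_mul_mem (i '' s) (i c) ?_ _ ?_
  · rintro ⟨j, hj, hjc⟩
    exact hc (hi hjc ▸ hj)
  · have : e.symm ((v c).1 * x) = X (i c) * e.symm x := by
      rw [map_mul, ← he c, e.symm_apply_apply]
    rwa [this] at h

theorem form_ne_zero (c : ι) : (v c).1 ≠ 0 := fun h => hv.ne_zero c (Subtype.ext h)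

theorem form_prime (c : ι) : Prime (v c).1 := by
  obtain ⟨κ, e, i, hi, he⟩ := exists_coord v hv
  rw [← he c]
  exact (MulEquiv.prime_iff e.toRingEquiv.toMulEquiv).mpr (X_prime (i := i c) (R := k))

end Forms

/-- A nonzero linear form is prime. -/
theorem prime_of_ne_zero {σ : Type} (v : V1 σ k) (hv : v.1 ≠ 0) : Prime v.1 :=
  form_prime (fun _ : Unit => v) (LinearIndependent.of_subsingleton () fun h => hv (congrArg Subtype.val h)) ()

end K715.LinForms
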