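import Groth.Agent.Fano.K715.HomSeq
import Groth.Agent.Fano.K715.Res2

/-!
# The Hom sequences for the ideal of a plane union a quadric
-/

set_option autoImplicit false

universe u

open CategoryTheory CategoryTheory.Limits AlgebraicGeometry TopologicalSpace Opposite

namespace K715.HomPn

open LefPen K715.LinForms K715.HBAlg K715.HBRing K715.Geo K715.Gens K715.Pair K715.Res K715.Res2 K715.HomSeq
open Groth.Agent Groth.Agent.CohqB.HomSheaf Groth.Agent.Sga2.PnHomAdj Groth.Agent.Sga2.PnHomExact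
open Groth.Agent.PerfA.IdealModule

variable {n : ℕ} {k : Type u} [Field k]

/-! ### `0 → I → O → Q → 0` -/

theorem epi_toSubscheme (I : (CohB1.ProjSpace n k).IdealSheafData) : Epi (ClSub.toSubscheme I) :=
  epi_of_small _ fun j V hV y => by
    obtain ⟨z, hz⟩ := I.subschemeι_app_surjective ⟨V, hV.1⟩ y
    exact ⟨Fdesc.LocGen.ofFun z, hz⟩

theorem w_ideal (I : (CohB1.ProjSpace n k).IdealSheafData) : ClSub.idealModι I ≫ ClSub.toSubscheme I = 0 :=
  kernel.condition _

/-- `0 → I → O → Q → 0`. -/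
theorem shortExact_ideal (I : (CohB1.ProjSpace n k).IdealSheafData) :
    (ShortComplex.mk (ClSub.idealModι I) (ClSub.toSubscheme I) (w_ideal I)).ShortExact where
  exact := ShortComplex.exact_of_f_is_kernel _ (kernelIsKernel _)
  mono_f := mono_idealModι I
  epi_g := epi_toSubscheme I

theorem smul_ofFun {X : Scheme.{u}} {U : X.Opens} (r s : Γ(X, U)) :
    r • Fdesc.LocGen.ofFun s = Fdesc.LocGen.ofFun (r * s) := rfl

/-! ### Linear maps out of the sections of `F₀`, `F₁` -/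

section lin

variable (j : Fin (n + 1)) {V : (CohB1.ProjSpace n k).Opens} (hV : V ≤ chart n k j)

/-- Coordinates on `F₀`. -/
noncomputable def co0 : (Γ(CohB1.ProjSpace n k, V) × Γ(CohB1.ProjSpace n k, V) × Γ(CohB1.ProjSpace n k, V))
    ≃ₗ[Γ(CohB1.ProjSpace n k, V)] Γ(F0 n k, V) :=
  LinearEquiv.ofBijective
    { toFun := fun p => s0 j hV p.1 p.2.1 p.2.2
      map_add' := fun p p' => (s0_add j hV _ _ _ _ _ _).symm
      map_smul' := fun r p => (smul_s0 j hV r _ _ _).symm }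
    ⟨fun p p' h => by
      obtain ⟨h1, h2, h3⟩ := s0_inj j hV h
      exact Prod.ext h1 (Prod.ext h2 h3),
    fun w => by
      obtain ⟨x, y, z, h⟩ := exists_s0 j hV w
      exact ⟨(x, y, z), h.symm⟩⟩

theorem co0_symm (x y z : Γ(CohB1.ProjSpace n k, V)) : (co0 j hV).symm (s0 j hV x y z) = (x, y, z) :=
  (LinearEquiv.symm_apply_eq _).mpr rfl

theorem exists_lin0 {N : (CohB1.ProjSpace n k).Modules} (f g h : Γ(N, V)) :
    ∃ F : Γ(F0 n k, V) →ₗ[Γ(CohB1.ProjSpace n k, V)] Γ(N, V), ∀ x y z,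
      F (s0 j hV x y z) = x • f + y • g + z • h := by
  refine ⟨((LinearMap.toSpanSingleton _ _ f).comp (LinearMap.fst _ _ _) +
    (LinearMap.toSpanSingleton _ _ g).comp ((LinearMap.fst _ _ _).comp (LinearMap.snd _ _ _)) +
    (LinearMap.toSpanSingleton _ _ h).comp ((LinearMap.snd _ _ _).comp (LinearMap.snd _ _ _))).comp
      (co0 j hV).symm.toLinearMap, fun x y z => ?_⟩
  simp only [LinearMap.comp_apply, LinearMap.add_apply, LinearEquiv.coe_coe, co0_symm]
  rfl

theorem s1_eq (s t : Γ(CohB1.ProjSpace n k, V)) : s1 j hV s t = s • s1 j hV 1 0 + t • s1 j hV 0 1 := by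
  rw [smul_s1, smul_s1, s1_add]
  simp

end lin

theorem isFinLocFree_OO (d : ℤ) : FlatMod.IsFinLocFree (OO n k d) :=
  Ega2.QCohLocal.isFinLocFree_of_rank
    (Ega2.QCohLocal.isFinLocFreeOfRank_one_iff.mpr (FormalB.TwistGen.isInvertible_twistProjSpace n k d))

theorem isFinLocFree_F0 : FlatMod.IsFinLocFree (F0 n k) :=
  Dcoh.FinLocFree.isFinLocFree_biprod (isFinLocFree_OO _)
    (Dcoh.FinLocFree.isFinLocFree_biprod (isFinLocFree_OO _) (isFinLocFree_OO _))

theorem isFinLocFree_F1 : FlatMod.IsFinLocFree (F1 n k) :=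
  Dcoh.FinLocFree.isFinLocFree_biprod (isFinLocFree_OO _) (isFinLocFree_OO _)

theorem isQCoh_F0 : Coh.IsQCoh (F0 n k) := Ega2.QCohLocal.isQCoh_of_isFinLocFree isFinLocFree_F0

theorem isQCoh_F1 : Coh.IsQCoh (F1 n k) := Ega2.QCohLocal.isQCoh_of_isFinLocFree isFinLocFree_F1

variable {l₁ l₂ m a b : Form n k 1} {q : Form n k 2} {c : Form n k 1}
  (hq : q.1 = a.1 * l₁.1 + b.1 * l₂.1 + c.1 * m.1) (H : HB l₁.1 l₂.1 m.1 a.1 b.1)

/-- The ideal sheaf as a module. -/
noncomputable abbrev IM (l₁ l₂ m : Form n k 1) (q : Form n k 2) : (CohB1.ProjSpace n k).Modules :=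
  ClSub.idealMod (II l₁ l₂ m q)

/-- `O / I`. -/
noncomputable abbrev QM (l₁ l₂ m : Form n k 1) (q : Form n k 2) : (CohB1.ProjSpace n k).Modules :=
  ClSub.quotMod (II l₁ l₂ m q)

theorem appL_idealModι (I : (CohB1.ProjSpace n k).IdealSheafData) (V : (CohB1.ProjSpace n k).Opens)
    (x : Γ(ClSub.idealMod I, V)) : (ClSub.idealModι I).app V x = Fdesc.LocGen.ofFun (val I x) := rfl

include hq H in
theorem epi_ag : Epi (ag (φ := phi l₁ l₂ m a b) (w_ideal _) (shortExact_ideal (II l₁ l₂ m q))) := by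
  refine epi_of_small _ fun j V hV y => ?_
  have h₀ := isQCoh_F0 (n := n) (k := k)
  have h₁ := isQCoh_F1 (n := n) (k := k)
  let I := II l₁ l₂ m q
  change Γ(homSheaf (F1 n k) (IM l₁ l₂ m q), V) at y
  set yl := comp y V le_rfl with hyl
  obtain ⟨x1, x2, x3, hx⟩ := (mem_II_iff hq H j hV _).mp (val_mem I ⟨V, hV.1⟩ (yl (s1 j hV.2 1 0)))
  obtain ⟨y1, y2, y3, hy⟩ := (mem_II_iff hq H j hV _).mp (val_mem I ⟨V, hV.1⟩ (yl (s1 j hV.2 0 1)))
  set L1 := rho j hV.2 l₁.1
  set L2 := rho j hV.2 l₂.1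
  set M := rho j hV.2 m.1
  set A := rho j hV.2 a.1
  set B := rho j hV.2 b.1
  obtain ⟨F, hF⟩ := exists_lin0 j hV.2 (N := Coh.structureModule (CohB1.ProjSpace n k))
    (Fdesc.LocGen.ofFun (x2 * L1 + x3 * L2 - y2 * B + y3 * A))
    (Fdesc.LocGen.ofFun (-x1 * L1 + y1 * B + y3 * M))
    (Fdesc.LocGen.ofFun (-x1 * L2 - y1 * A - y2 * M))
  set G := (affineEquiv h₀ hV.1).symm F with hG
  have hGF : comp G V le_rfl = F := comp_affineEquiv_symm h₀ hV.1 F
  have key : (homMapLeft (phi l₁ l₂ m a b) (Coh.structureModule (CohB1.ProjSpace n k))).app V G =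
      (homMapRight (F1 n k) (ClSub.idealModι I)).app V y := by
    refine comp_injective h₁ hV.1 fun w => ?_
    obtain ⟨s, t, rfl⟩ := exists_s1 j hV.2 w
    have e1 : comp ((homMapLeft (phi l₁ l₂ m a b) (Coh.structureModule (CohB1.ProjSpace n k))).app V G) V le_rfl
        (s1 j hV.2 s t) = comp G V le_rfl ((phi l₁ l₂ m a b).app V (s1 j hV.2 s t)) := rfl
    have e2 : comp ((homMapRight (F1 n k) (ClSub.idealModι I)).app V y) V le_rfl (s1 j hV.2 s t) =
        Fdesc.LocGen.ofFun (val I (yl (s1 j hV.2 s t))) := rfl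
    have e3 : val I (yl (s1 j hV.2 s t)) =
        s * val I (yl (s1 j hV.2 1 0)) + t * val I (yl (s1 j hV.2 0 1)) := by
      rw [← val_smul, ← val_smul, s1_eq, LinearMap.map_add, LinearMap.map_smul, LinearMap.map_smul]
      exact map_add ((ClSub.idealModι I).app V).hom _ _
    rw [e1, e2, hGF, phi_s1, hF, e3, hx, hy, smul_ofFun, smul_ofFun, smul_ofFun, ← map_add, ← map_add]
    congr 1
    simp only [L1, L2, M, A, B]
    ring
  have hdd : (dd (phi l₁ l₂ m a b) (ClSub.toSubscheme I)).app V G = 0 := by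
    change (homMapRight (F1 n k) (ClSub.toSubscheme I)).app V
      ((homMapLeft (phi l₁ l₂ m a b) (Coh.structureModule (CohB1.ProjSpace n k))).app V G) = 0
    rw [key]
    change (homMapRight (F1 n k) (ClSub.idealModι I) ≫ homMapRight (F1 n k) (ClSub.toSubscheme I)).app V y = 0
    rw [homMapRight_comp, w_ideal, homMapRight_zero]; rfl
  obtain ⟨z, hz⟩ := PerfB.ModExact.exists_app_of_isLimit (kι (phi l₁ l₂ m a b) (ClSub.toSubscheme I))
    (dd (phi l₁ l₂ m a b) (ClSub.toSubscheme I)) (kι_dd _ _)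
    (kernelIsKernel (dd (phi l₁ l₂ m a b) (ClSub.toSubscheme I))) V G hdd
  refine ⟨z, ?_⟩
  have hmono : Mono (homMapRight (F1 n k) (ClSub.idealModι I)) := mono_homMapRight _ _
  apply PerfB.ModExact.app_injective_of_mono (homMapRight (F1 n k) (ClSub.idealModι I)) V
  rw [← key, ← hz]
  change (ag (φ := phi l₁ l₂ m a b) (w_ideal _) (shortExact_ideal (II l₁ l₂ m q)) ≫
    homMapRight (F1 n k) (ClSub.idealModι I)).app V z = _
  rw [ag_comp]
  rfl

end K715.HomPn
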