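import Groth.Agent.Fano.K715.Geo
import Groth.Agent.PerfB.TwistMul
import Groth.Agent.FormalB.TwistGen

/-!
# Generators of `O(d)` over the standard charts of `P^n` and multiplication by forms

* `eg j d hU : Γ(O(d), U)` for `U ≤ D_+(T_j)`: the section `T_j ^ d`, a generator (`isGen_eg`);
* `mulF G a b h : O(a) ⟶ O(b)` for a form `G` of degree `b - a`; `mulF_eg`: it multiplies generators by `rho G`.
-/

set_option autoImplicit false

universe u

open CategoryTheory CategoryTheory.Limits AlgebraicGeometry TopologicalSpace Opposite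

namespace K715.Gens

open LefPen K715.Geo
open Groth.Agent.Lefpen.H705.HypIdeal Groth.Agent.Lefpen.H705.ChartPoly
open Groth.Agent.Fdesc.LocGen Groth.Agent.FormalB.TwistGen Groth.Agent.PerfB.TwistMul

variable {n : ℕ} {k : Type u} [Field k]

/-- `O(d)` on `P^n_k`. -/
noncomputable abbrev OO (n : ℕ) (k : Type u) [Field k] (d : ℤ) : (CohB1.ProjSpace n k).Modules :=
  Twist.twistProjSpace n k d

/-- the value at a point of a section of `O(d)`. -/
noncomputable def vl {d : ℤ} {U : (CohB1.ProjSpace n k).Opens} (s : Γ(OO n k d, U)) (x : U) :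
    Twist.Loc (CohB1.polyGrading n k) x.1 := ((toSect (𝒜 := CohB1.polyGrading n k) s).1 x).1

theorem vl_ext {d : ℤ} {U : (CohB1.ProjSpace n k).Opens} {s t : Γ(OO n k d, U)} (h : ∀ x, vl s x = vl t x) :
    s = t := sectN_ext (𝒜 := CohB1.polyGrading n k) (n := d) (U := op U) h

theorem vl_res {d : ℤ} {U V : (CohB1.ProjSpace n k).Opens} (h : V ≤ U) (s : Γ(OO n k d, U)) (x : V) :
    vl (res (OO n k d) h s) x = vl s ⟨x.1, h x.2⟩ := rfl

theorem vl_smul {d : ℤ} {U : (CohB1.ProjSpace n k).Opens} (c : Γ(CohB1.ProjSpace n k, U)) (s : Γ(OO n k d, U))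
    (x : U) : vl (c • s) x = (c.1 x).val * vl s x := rfl

theorem mem_chart_iff {j : Fin (n + 1)} {x : CohB1.ProjSpace n k} (hx : x ∈ chart n k j) :
    (MvPolynomial.X j : MvPolynomial (Fin (n + 1)) k) ∉ ProjectiveSpectrum.asHomogeneousIdeal x := hx

theorem exists_gen (j : Fin (n + 1)) (d : ℤ) (U : (CohB1.ProjSpace n k).Opens) (hU : U ≤ chart n k j) :
    ∃ e : Γ(OO n k d, U), IsGen e ∧ ∀ x : U, vl e x = pw (MvPolynomial.X j) d x.1 (hU x.2) := by
  have key : ∀ d' : ℤ, ((1 : ℕ) : ℤ) * d = d' → ∃ e : Γ(OO n k d', U), IsGen e ∧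
      ∀ x : U, vl e x = pw (MvPolynomial.X j) d x.1 (hU x.2) := by
    rintro d' rfl
    exact ⟨gen (m := 1) (X_mem n k j) d U hU, isGen_gen (m := 1) (X_mem n k j) d U hU, fun x => rfl⟩
  exact key d (by simp)

/-- The section `T_j ^ d` of `O(d)` over `U ≤ D_+(T_j)`. -/
noncomputable def eg (j : Fin (n + 1)) (d : ℤ) {U : (CohB1.ProjSpace n k).Opens} (hU : U ≤ chart n k j) :
    Γ(OO n k d, U) := (exists_gen j d U hU).choose

theorem isGen_eg (j : Fin (n + 1)) (d : ℤ) {U : (CohB1.ProjSpace n k).Opens} (hU : U ≤ chart n k j) :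
    IsGen (eg j d hU) := (exists_gen j d U hU).choose_spec.1

theorem vl_eg (j : Fin (n + 1)) (d : ℤ) {U : (CohB1.ProjSpace n k).Opens} (hU : U ≤ chart n k j) (x : U) :
    vl (eg j d hU) x = pw (MvPolynomial.X j) d x.1 (hU x.2) := (exists_gen j d U hU).choose_spec.2 x

theorem res_eg (j : Fin (n + 1)) (d : ℤ) {U V : (CohB1.ProjSpace n k).Opens} (hU : U ≤ chart n k j) (h : V ≤ U) :
    res (OO n k d) h (eg j d hU) = eg j d (h.trans hU) := by
  apply vl_ext
  intro x
  rw [vl_res, vl_eg, vl_eg]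

theorem pw_add_nat (f : MvPolynomial (Fin (n + 1)) k) (a b : ℤ) (d : ℕ) (h : b = a + d)
    (x : ProjectiveSpectrum (CohB1.polyGrading n k)) (hx : f ∉ x.asHomogeneousIdeal) :
    pw f b x hx = algebraMap _ _ (f ^ d) * pw f a x hx := by
  rw [pw, pw, ← Localization.mk_one_eq_algebraMap, Localization.mk_mul, Localization.mk_eq_mk_iff,
    Localization.r_iff_exists]
  refine ⟨1, ?_⟩
  simp only [OneMemClass.coe_one, one_mul, Submonoid.coe_mul]
  rw [← pow_add, ← pow_add, ← pow_add]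
  congr 1
  omega

/-- Multiplication by a form. -/
noncomputable def mulF {d : ℕ} (G : Form n k d) (a b : ℤ) (h : b = a + d) : OO n k a ⟶ OO n k b :=
  mulT (𝒜 := CohB1.polyGrading n k) G a b h

theorem vl_mulF {d : ℕ} (G : Form n k d) (a b : ℤ) (h : b = a + d) {U : (CohB1.ProjSpace n k).Opens}
    (s : Γ(OO n k a, U)) (x : U) :
    vl ((mulF G a b h).app U s) x = algebraMap _ _ G.1 * vl s x := by
  have h1 : vl ((mulF G a b h).app U s) x = Localization.mk G.1 (oneC x.1) * vl s x := rfl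
  rw [h1, ← Localization.mk_one_eq_algebraMap]
  rfl

theorem rho_val (j : Fin (n + 1)) {U : (CohB1.ProjSpace n k).Opens} (hU : U ≤ chart n k j) {d : ℕ}
    (G : Form n k d) (x : U) :
    ((rho j hU G.1).1 x).val = Localization.mk G.1 ⟨MvPolynomial.X j ^ d, pow_mem_primeCompl j ⟨x.1, hU x.2⟩ d⟩ := by
  rw [rho_form, ores_val, dehom_val]

/-- Multiplication by a form, on the generators. -/
theorem mulF_eg {d : ℕ} (G : Form n k d) (a b : ℤ) (h : b = a + d) (j : Fin (n + 1))
    {U : (CohB1.ProjSpace n k).Opens} (hU : U ≤ chart n k j) :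
    (mulF G a b h).app U (eg j a hU) = rho j hU G.1 • eg j b hU := by
  apply vl_ext
  intro x
  rw [vl_mulF, vl_smul, vl_eg, vl_eg, rho_val, pw_add_nat _ a b d h, ← mul_assoc]
  congr 1
  rw [← Localization.mk_one_eq_algebraMap, ← Localization.mk_one_eq_algebraMap, Localization.mk_mul,
    Localization.mk_eq_mk_iff, Localization.r_iff_exists]
  refine ⟨1, ?_⟩
  simp only [OneMemClass.coe_one, one_mul, Submonoid.coe_mul, mul_one]
  ring

theorem exists_smul_eg (j : Fin (n + 1)) {d : ℤ} {U : (CohB1.ProjSpace n k).Opens} (hU : U ≤ chart n k j)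
    (s : Γ(OO n k d, U)) : ∃ a : Γ(CohB1.ProjSpace n k, U), s = a • eg j d hU :=
  (isGen_eg j d hU).exists_eq s

theorem smul_eg_injective (j : Fin (n + 1)) {d : ℤ} {U : (CohB1.ProjSpace n k).Opens} (hU : U ≤ chart n k j)
    {a b : Γ(CohB1.ProjSpace n k, U)} (h : a • eg j d hU = b • eg j d hU) : a = b :=
  (isGen_eg j d hU).ext h

end K715.Gens
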