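import Groth.Agent.Fano.K715.HBRing
import Groth.Agent.Lefpen.H705.ChartPoly
import Mathlib.AlgebraicGeometry.Morphisms.Flat

/-!
# Sections over affine opens of the standard charts of `P^n`

`rho j U hU : k[T_0, …, T_n] →+* Γ(P^n, U)` for `U ≤ D_+(T_j)`; the ideal of a hypersurface over an affine such `U`
is generated by `rho G`; the facts `HB` hold for the images of homogeneous data.
-/

set_option autoImplicit false

universe u

open CategoryTheory CategoryTheory.Limits AlgebraicGeometry TopologicalSpace Opposite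

namespace K715.Geo

open LefPen K715.LinForms K715.HBAlg K715.HBRing
open Groth.Agent.Lefpen.H705.HypIdeal Groth.Agent.Lefpen.H705.ChartPoly Groth.Agent.Sga5
open Groth.Agent.Fdesc.LocGen

variable {n : ℕ} {k : Type u} [Field k]

/-- The function `F / T_j^{deg F}` on `U ≤ D_+(T_j)`. -/
noncomputable def rho (j : Fin (n + 1)) {U : (CohB1.ProjSpace n k).Opens} (hU : U ≤ chart n k j) :
    MvPolynomial (Fin (n + 1)) k →+* Γ(CohB1.ProjSpace n k, U) :=
  ((ores hU).comp (polyToChart j)).comp (ProjChart.dehom n k j)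

theorem rho_form (j : Fin (n + 1)) {U : (CohB1.ProjSpace n k).Opens} (hU : U ≤ chart n k j) {d : ℕ}
    (G : Form n k d) : rho j hU G.1 = ores hU (dehom G j) := by
  rw [dehom_eq]; rfl

theorem ores_rho (j : Fin (n + 1)) {U V : (CohB1.ProjSpace n k).Opens} (hU : U ≤ chart n k j) (hV : V ≤ U)
    (F : MvPolynomial (Fin (n + 1)) k) : ores hV (rho j hU F) = rho j (hV.trans hU) F := by
  change (CohB1.ProjSpace n k).presheaf.map _ ((CohB1.ProjSpace n k).presheaf.map _ _) = _
  rw [← ConcreteCategory.comp_apply, ← Functor.map_comp]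
  rfl

theorem ideal_hyp (j : Fin (n + 1)) (U : (CohB1.ProjSpace n k).affineOpens) (hU : U.1 ≤ chart n k j) {d : ℕ}
    (G : Form n k d) : (hypIdeal G).ideal U = Ideal.span {rho j hU G.1} := by
  rw [hypIdeal_ideal_of_le G j U hU, rho_form]

/-- Functions on an affine open contained in the chart are flat over polynomials. -/
theorem flat_chart (j : Fin (n + 1)) {U : (CohB1.ProjSpace n k).Opens} (hU : U ≤ chart n k j)
    (haff : IsAffineOpen U) : ((ores hU).comp (polyToChart j)).Flat := by
  refine RingHom.Flat.comp (RingHom.Flat.of_bijective (polyToChart_bijective j)) ?_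
  have h := (𝟙 (CohB1.ProjSpace n k) : CohB1.ProjSpace n k ⟶ _).flat_appLE (isAffineOpen_chart j) haff
    (by simpa using hU)
  convert h using 1
  rw [Scheme.Hom.appLE]
  simp
  rfl

/-- The facts `HB` over affine opens of a chart. -/
theorem hb_affine (j : Fin (n + 1)) {U : (CohB1.ProjSpace n k).Opens} (hU : U ≤ chart n k j)
    (haff : IsAffineOpen U) {l₁ l₂ m a b : Form n k 1} (H : HB l₁.1 l₂.1 m.1 a.1 b.1) :
    HB (rho j hU l₁.1) (rho j hU l₂.1) (rho j hU m.1) (rho j hU a.1) (rho j hU b.1) :=
  (H.dehom l₁.2 l₂.2 m.2 a.2 b.2 j).map_flat _ (flat_chart j hU haff)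

end K715.Geo
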