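import Groth.Agent.Fano.K715.HBAlg

/-!
# The ring-theoretic facts behind the Hilbert–Burch resolution of `(l₁, l₂) ∩ (m, a l₁ + b l₂)`
-/

set_option autoImplicit false

universe u

namespace K715.HBRing

open MvPolynomial K715.LinForms K715.HBAlg

/-- `l₁, l₂, m` is a regular-type sequence and `q = a l₁ + b l₂` is a non-zero-divisor mod `m`. -/
structure HB {R : Type*} [CommRing R] (l₁ l₂ m a b : R) : Prop where
  k1 : ∀ x y, x * l₁ + y * l₂ = 0 → ∃ t, x = t * l₂ ∧ y = -(t * l₁)
  k2 : ∀ x y z, m * x = y * l₁ + z * l₂ → ∃ c d, x = c * l₁ + d * l₂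
  k3 : ∀ x y, (a * l₁ + b * l₂) * x = m * y → ∃ t, x = m * t
  k4 : ∀ x, m * x = 0 → x = 0
  k5 : ∀ x, x * l₁ = 0 → x * l₂ = 0 → x = 0

variable {R : Type*} [CommRing R] {l₁ l₂ m a b : R}

theorem HB.of_matExact
    (h1 : MatExact (!![l₂; -l₁]) (!![l₁, l₂]))
    (h2 : MatExact (!![l₁, l₂, 0; m, 0, l₂; 0, m, -l₁]) (!![m, -l₁, -l₂]))
    (h3 : MatExact (!![m; a * l₁ + b * l₂]) (!![a * l₁ + b * l₂, -m]))
    (h4 : MatExact (0 : Matrix (Fin 1) (Fin 0) R) (!![m]))
    (h5 : MatExact (0 : Matrix (Fin 1) (Fin 0) R) (!![l₁; l₂])) : HB l₁ l₂ m a b where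
  k1 x y h := by
    obtain ⟨w, hw⟩ := h1 ![x, y] (by
      funext i; fin_cases i
      simp [Matrix.mulVec, dotProduct, Fin.sum_univ_two]
      linear_combination h)
    refine ⟨w 0, ?_, ?_⟩
    · have := congrFun hw 0
      simp [Matrix.mulVec, dotProduct] at this
      linear_combination this
    · have := congrFun hw 1
      simp [Matrix.mulVec, dotProduct] at this
      linear_combination this
  k2 x y z h := by
    obtain ⟨w, hw⟩ := h2 ![x, y, z] (by
      funext i; fin_cases i
      simp [Matrix.mulVec, dotProduct, Fin.sum_univ_three]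
      linear_combination h)
    refine ⟨w 0, w 1, ?_⟩
    have := congrFun hw 0
    simp [Matrix.mulVec, dotProduct, Fin.sum_univ_three] at this
    linear_combination this
  k3 x y h := by
    obtain ⟨w, hw⟩ := h3 ![x, y] (by
      funext i; fin_cases i
      simp [Matrix.mulVec, dotProduct, Fin.sum_univ_two]
      linear_combination h)
    refine ⟨w 0, ?_⟩
    have := congrFun hw 0
    simp [Matrix.mulVec, dotProduct] at this
    linear_combination this
  k4 x h := by
    obtain ⟨w, hw⟩ := h4 ![x] (by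
      funext i; fin_cases i
      simp [Matrix.mulVec, dotProduct]
      linear_combination h)
    have := congrFun hw 0
    simpa [Matrix.mulVec, dotProduct] using this
  k5 x h h' := by
    obtain ⟨w, hw⟩ := h5 ![x] (by
      funext i; fin_cases i
      · simp [Matrix.mulVec, dotProduct]
        linear_combination h
      · simp [Matrix.mulVec, dotProduct]
        linear_combination h')
    have := congrFun hw 0
    simpa [Matrix.mulVec, dotProduct] using this

theorem HB.matExact1 (H : HB l₁ l₂ m a b) : MatExact (!![l₂; -l₁]) (!![l₁, l₂]) := by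
  intro v hv
  have h := congrFun hv 0
  simp [Matrix.mulVec, dotProduct, Fin.sum_univ_two] at h
  obtain ⟨t, h1, h2⟩ := H.k1 (v 0) (v 1) (by linear_combination h)
  refine ⟨![t], ?_⟩
  funext i; fin_cases i
  · simp [Matrix.mulVec, dotProduct]; linear_combination h1
  · simp [Matrix.mulVec, dotProduct]; linear_combination h2

theorem HB.matExact2 (H : HB l₁ l₂ m a b) :
    MatExact (!![l₁, l₂, 0; m, 0, l₂; 0, m, -l₁]) (!![m, -l₁, -l₂]) := by
  intro v hv
  have h := congrFun hv 0
  simp [Matrix.mulVec, dotProduct, Fin.sum_univ_three] at h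
  obtain ⟨c, d, h1⟩ := H.k2 (v 0) (v 1) (v 2) (by linear_combination h)
  obtain ⟨t, h2, h3⟩ := H.k1 (v 1 - m * c) (v 2 - m * d) (by rw [h1] at h; linear_combination -h)
  refine ⟨![c, d, t], ?_⟩
  funext i; fin_cases i
  · simp [Matrix.mulVec, dotProduct, Fin.sum_univ_three]; linear_combination h1
  · simp [Matrix.mulVec, dotProduct, Fin.sum_univ_three]; linear_combination h2
  · simp [Matrix.mulVec, dotProduct, Fin.sum_univ_three]; linear_combination h3

theorem HB.matExact3 (H : HB l₁ l₂ m a b) :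
    MatExact (!![m; a * l₁ + b * l₂]) (!![a * l₁ + b * l₂, -m]) := by
  intro v hv
  have h := congrFun hv 0
  simp [Matrix.mulVec, dotProduct, Fin.sum_univ_two] at h
  obtain ⟨t, h1⟩ := H.k3 (v 0) (v 1) (by linear_combination h)
  have h2 : v 1 - (a * l₁ + b * l₂) * t = 0 := H.k4 _ (by rw [h1] at h; linear_combination -h)
  refine ⟨![t], ?_⟩
  funext i; fin_cases i
  · simp [Matrix.mulVec, dotProduct]; linear_combination h1
  · simp [Matrix.mulVec, dotProduct]; linear_combination h2

theorem HB.matExact4 (H : HB l₁ l₂ m a b) : MatExact (0 : Matrix (Fin 1) (Fin 0) R) (!![m]) := by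
  intro v hv
  have h := congrFun hv 0
  simp [Matrix.mulVec, dotProduct] at h
  refine ⟨Fin.elim0, ?_⟩
  funext i; fin_cases i
  simpa [Matrix.mulVec, dotProduct] using H.k4 _ h

theorem HB.matExact5 (H : HB l₁ l₂ m a b) : MatExact (0 : Matrix (Fin 1) (Fin 0) R) (!![l₁; l₂]) := by
  intro v hv
  have h := congrFun hv 0
  have h' := congrFun hv 1
  simp [Matrix.mulVec, dotProduct] at h h'
  refine ⟨Fin.elim0, ?_⟩
  funext i; fin_cases i
  simpa [Matrix.mulVec, dotProduct] using H.k5 _ (by rw [mul_comm]; exact h) (by rw [mul_comm]; exact h')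

/-- Flat base change. -/
theorem HB.map_flat {R' : Type*} [CommRing R'] (H : HB l₁ l₂ m a b) (f : R →+* R') (hf : f.Flat) :
    HB (f l₁) (f l₂) (f m) (f a) (f b) := by
  apply HB.of_matExact
  · convert matExact_flat f hf _ _ H.matExact1 using 1
    · ext i j; fin_cases i <;> fin_cases j <;> simp
    · ext i j; fin_cases i; fin_cases j <;> simp
  · convert matExact_flat f hf _ _ H.matExact2 using 1
    · ext i j; fin_cases i <;> fin_cases j <;> simp
    · ext i j; fin_cases i; fin_cases j <;> simp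
  · convert matExact_flat f hf _ _ H.matExact3 using 1
    · ext i j; fin_cases i <;> fin_cases j <;> simp
    · ext i j; fin_cases i; fin_cases j <;> simp
  · convert matExact_flat f hf _ _ H.matExact4 using 1
    · ext i j; exact j.elim0
    · ext i j; fin_cases i; fin_cases j; simp
  · convert matExact_flat f hf _ _ H.matExact5 using 1
    · ext i j; exact j.elim0
    · ext i j; fin_cases i <;> fin_cases j <;> simp

section Chart

open Groth.Agent.Sga5

variable {k : Type u} [Field k] {N : ℕ}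

/-- From homogeneous coordinates to a chart. -/
theorem HB.dehom {l₁ l₂ m a b : MvPolynomial (Fin (N + 1)) k} (H : HB l₁ l₂ m a b)
    (h1 : l₁.IsHomogeneous 1) (h2 : l₂.IsHomogeneous 1) (hm : m.IsHomogeneous 1)
    (ha : a.IsHomogeneous 1) (hb : b.IsHomogeneous 1) (j : Fin (N + 1)) :
    HB (ProjChart.dehom N k j l₁) (ProjChart.dehom N k j l₂) (ProjChart.dehom N k j m)
      (ProjChart.dehom N k j a) (ProjChart.dehom N k j b) := by
  have hq : (a * l₁ + b * l₂).IsHomogeneous 2 := (ha.mul h1).add (hb.mul h2)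
  apply HB.of_matExact
  · convert matExact_dehom j _ _ H.matExact1 (fun _ => 0) (fun _ => 1) (fun _ _ => 1) (by intros; rfl) (by
      intro i l; fin_cases i; fin_cases l <;> simpa) using 1
    · ext i j; fin_cases i <;> fin_cases j <;> simp
    · ext i j; fin_cases i; fin_cases j <;> simp
  · convert matExact_dehom j _ _ H.matExact2 (fun _ => 0) (fun _ => 1) (fun _ _ => 1) (by intros; rfl) (by
      intro i l; fin_cases i; fin_cases l <;> first | simpa using h1.neg | simpa using h2.neg | simpa) using 1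
    · ext i j; fin_cases i <;> fin_cases j <;> simp
    · ext i j; fin_cases i; fin_cases j <;> simp
  · convert matExact_dehom j _ _ H.matExact3 ![0, 1] (fun _ => 2) (fun _ => ![2, 1]) (by
        intro i l; fin_cases l <;> rfl) (by
      intro i l; fin_cases i; fin_cases l <;> first | simpa using hm.neg | simpa using hq) using 1
    · ext i j; fin_cases i <;> fin_cases j <;> simp
    · ext i j; fin_cases i; fin_cases j <;> simp
  · convert matExact_dehom j _ _ H.matExact4 (fun _ => 0) (fun _ => 1) (fun _ _ => 1) (by intros; rfl) (by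
      intro i l; fin_cases i; fin_cases l; simpa) using 1
    · ext i j; exact j.elim0
    · ext i j; fin_cases i; fin_cases j; simp
  · convert matExact_dehom j _ _ H.matExact5 (fun _ => 0) (fun _ => 1) (fun _ _ => 1) (by intros; rfl) (by
      intro i l; fin_cases i <;> fin_cases l <;> simpa) using 1
    · ext i j; exact j.elim0
    · ext i j; fin_cases i <;> fin_cases j <;> simp

/-- The facts for linearly independent linear forms and `a l₁ + b l₂ ∉ (m)`. -/
theorem HB.of_forms (l₁ l₂ m : V1 (Fin (N + 1)) k) (hlin : LinearIndependent k ![l₁, l₂, m])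
    (a b : MvPolynomial (Fin (N + 1)) k) (hq : ¬ m.1 ∣ a * l₁.1 + b * l₂.1) :
    HB l₁.1 l₂.1 m.1 a b := by
  have p1 : Prime l₁.1 := form_prime ![l₁, l₂, m] hlin 0
  have p2 : Prime l₂.1 := form_prime ![l₁, l₂, m] hlin 1
  have pm : Prime m.1 := form_prime ![l₁, l₂, m] hlin 2
  have hk1 : ∀ x y, x * l₁.1 + y * l₂.1 = 0 → ∃ t, x = t * l₂.1 ∧ y = -(t * l₁.1) := by
    intro x y h
    have h1 : l₁.1 * x ∈ Ideal.span ((fun j => ((![l₁, l₂, m] : Fin 3 → _) j).1) '' {1}) := by
      rw [Set.image_singleton, Ideal.mem_span_singleton]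
      exact ⟨-y, by simp; linear_combination h⟩
    have h2 := mem_of_mul_mem ![l₁, l₂, m] hlin {1} 0 (by simp) x h1
    rw [Set.image_singleton, Ideal.mem_span_singleton] at h2
    obtain ⟨t, ht⟩ := h2
    have ht' : x = l₂.1 * t := by simpa using ht
    refine ⟨t, by rw [ht', mul_comm], ?_⟩
    have h3 : l₂.1 * (y + t * l₁.1) = 0 := by rw [ht'] at h; linear_combination h
    have h4 := (mul_eq_zero.mp h3).resolve_left p2.ne_zero
    linear_combination h4
  refine ⟨hk1, ?_, ?_, ?_, ?_⟩
  · intro x y z h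
    have e : (fun j => ((![l₁, l₂, m] : Fin 3 → _) j).1) '' {0, 1} = {l₁.1, l₂.1} := by
      rw [Set.image_pair]; rfl
    have h1 : m.1 * x ∈ Ideal.span ((fun j => ((![l₁, l₂, m] : Fin 3 → _) j).1) '' {0, 1}) := by
      rw [e, Ideal.mem_span_pair]
      exact ⟨y, z, h.symm⟩
    have h2 := mem_of_mul_mem ![l₁, l₂, m] hlin {0, 1} 2 (by simp) x h1
    rw [e, Ideal.mem_span_pair] at h2
    obtain ⟨c, d, h3⟩ := h2
    exact ⟨c, d, h3.symm⟩
  · intro x y h
    have h1 : m.1 ∣ (a * l₁.1 + b * l₂.1) * x := ⟨y, h⟩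
    obtain ⟨t, ht⟩ := (pm.dvd_or_dvd h1).resolve_left hq
    exact ⟨t, ht⟩
  · intro x h
    exact (mul_eq_zero.mp h).resolve_left pm.ne_zero
  · intro x h _
    exact (mul_eq_zero.mp h).resolve_right p1.ne_zero

end Chart

/-! ### Consequences -/

namespace HB

variable (H : HB l₁ l₂ m a b)
include H

/-- The ideal `(l₁, l₂) ∩ (m, q)`. -/
theorem inf_eq : Ideal.span {l₁, l₂} ⊓ Ideal.span {m, a * l₁ + b * l₂} =
    Ideal.span {a * l₁ + b * l₂, m * l₁, m * l₂} := by
  apply le_antisymm
  · rintro x ⟨hx1, hx2⟩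
    obtain ⟨c, d, h1⟩ := Ideal.mem_span_pair.mp hx1
    obtain ⟨e, f, h2⟩ := Ideal.mem_span_pair.mp hx2
    obtain ⟨c', d', h3⟩ := H.k2 e (c - f * a) (d - f * b) (by linear_combination h2 - h1)
    rw [← h2, h3]
    have h4 : (c' * l₁ + d' * l₂) * m + f * (a * l₁ + b * l₂) =
        f * (a * l₁ + b * l₂) + c' * (m * l₁) + d' * (m * l₂) := by ring
    rw [h4]
    exact add_mem (add_mem (Ideal.mul_mem_left _ _ (Ideal.subset_span (by simp)))
      (Ideal.mul_mem_left _ _ (Ideal.subset_span (by simp))))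
      (Ideal.mul_mem_left _ _ (Ideal.subset_span (by simp)))
  · rw [Ideal.span_le]
    rintro x (rfl | rfl | rfl)
    · exact ⟨Ideal.mem_span_pair.mpr ⟨a, b, rfl⟩, Ideal.subset_span (by simp)⟩
    · exact ⟨Ideal.mem_span_pair.mpr ⟨m, 0, by ring⟩, Ideal.mem_span_pair.mpr ⟨l₁, 0, by ring⟩⟩
    · exact ⟨Ideal.mem_span_pair.mpr ⟨0, m, by ring⟩, Ideal.mem_span_pair.mpr ⟨l₂, 0, by ring⟩⟩

/-- Exactness at `R³`. -/
theorem syz (x y z : R) (h : x * (a * l₁ + b * l₂) + y * (m * l₁) + z * (m * l₂) = 0) :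
    ∃ s t, x = s * m ∧ y = -(s * a) + t * l₂ ∧ z = -(s * b) - t * l₁ := by
  obtain ⟨s, hs⟩ := H.k3 x (-(y * l₁ + z * l₂)) (by linear_combination h)
  have h1 : s * (a * l₁ + b * l₂) + (y * l₁ + z * l₂) = 0 := H.k4 _ (by rw [hs] at h; linear_combination h)
  obtain ⟨t, h2, h3⟩ := H.k1 (y + s * a) (z + s * b) (by linear_combination h1)
  exact ⟨s, t, by rw [hs]; ring, by linear_combination h2, by linear_combination h3⟩

/-- Injectivity of `R² → R³`. -/
theorem inj (s t : R) (h0 : s * m = 0) (h1 : -(s * a) + t * l₂ = 0) (h2 : -(s * b) - t * l₁ = 0) :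
    s = 0 ∧ t = 0 := by
  have hs : s = 0 := H.k4 s (by rw [mul_comm]; exact h0)
  subst hs
  refine ⟨rfl, H.k5 t ?_ ?_⟩
  · linear_combination -h2
  · linear_combination h1

/-- Exactness of the dual complex at `R³`. -/
theorem dual (x y z : R) (h1 : m * x = a * y + b * z) (h2 : l₂ * y = l₁ * z) :
    ∃ t, x = t * (a * l₁ + b * l₂) ∧ y = t * (m * l₁) ∧ z = t * (m * l₂) := by
  obtain ⟨s, h3, h4⟩ := H.k1 z (-y) (by linear_combination -h2)
  -- `z = s l₂`, `y = s l₁`
  have hy : y = s * l₁ := by linear_combination -h4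
  obtain ⟨t, ht⟩ := H.k3 s x (by rw [h1, hy, h3]; ring)
  have h5 : x - (a * l₁ + b * l₂) * t = 0 := H.k4 _ (by
    have : m * x = m * ((a * l₁ + b * l₂) * t) := by rw [h1, hy, h3, ht]; ring
    linear_combination this)
  exact ⟨t, by linear_combination h5, by rw [hy, ht]; ring, by rw [h3, ht]; ring⟩

end HB

end K715.HBRing
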