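import Groth.Agent.Fano.K715.HomPn

/-!
# `Hom(I, O) ≅ O` for the ideal of a plane union a quadric
-/

set_option autoImplicit false

universe u

open CategoryTheory CategoryTheory.Limits AlgebraicGeometry TopologicalSpace Opposite

namespace K715.HomIO

open LefPen K715.LinForms K715.HBAlg K715.HBRing K715.Geo K715.Gens K715.Pair K715.Res K715.Res2 K715.HomSeq
open K715.HomPn
open Groth.Agent Groth.Agent.CohqB.HomSheaf Groth.Agent.Sga2.PnHomAdj Groth.Agent.Sga2.PnHomExact
open Groth.Agent.PerfA.IdealModule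

/-- A global section of the internal Hom attached to a morphism. -/
noncomputable def ofMor {X : Scheme.{u}} {M N : X.Modules} (f : M ⟶ N) (U : X.Opens) : Γ(homSheaf M N, U) :=
  mkSec (fun V _ => appL f V) (fun _ _ _ h m => Fdesc.LocGen.app_res f h m)

theorem comp_ofMor {X : Scheme.{u}} {M N : X.Modules} (f : M ⟶ N) (U V : X.Opens) (hV : V ≤ U) (m : Γ(M, V)) :
    comp (ofMor f U) V hV m = f.app V m := rfl

theorem res_ofMor {X : Scheme.{u}} {M N : X.Modules} (f : M ⟶ N) {U V : X.Opens} (hV : V ≤ U) :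
    Fdesc.LocGen.res (homSheaf M N) hV (ofMor f U) = ofMor f V := rfl

/-- `O → Hom(M, N)` attached to `M → N`. -/
noncomputable def oMor {X : Scheme.{u}} {M N : X.Modules} (f : M ⟶ N) :
    Coh.structureModule X ⟶ homSheaf M N := Fdesc.LocGen.homOf (ofMor f ⊤)

theorem comp_oMor {X : Scheme.{u}} {M N : X.Modules} (f : M ⟶ N) (U : X.Opens) (r : Γ(X, U)) (m : Γ(M, U)) :
    comp ((oMor f).app U (Fdesc.LocGen.ofFun r)) U le_rfl m = r • f.app U m := by
  rw [oMor, Fdesc.LocGen.homOf_app, comp_self_smul]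
  rfl

variable {n : ℕ} {k : Type u} [Field k]
variable {l₁ l₂ m a b : Form n k 1} {q : Form n k 2} {c : Form n k 1}
  (hq : q.1 = a.1 * l₁.1 + b.1 * l₂.1 + c.1 * m.1) (H : HB l₁.1 l₂.1 m.1 a.1 b.1)

/-- `O → Hom(I, O)`. -/
noncomputable abbrev unitIO (l₁ l₂ m : Form n k 1) (q : Form n k 2) :
    Coh.structureModule (CohB1.ProjSpace n k) ⟶ homSheaf (IM l₁ l₂ m q) (Coh.structureModule (CohB1.ProjSpace n k)) :=
  oMor (ClSub.idealModι (II l₁ l₂ m q))

theorem exists_val (I : (CohB1.ProjSpace n k).IdealSheafData) {j : Fin (n + 1)} {V : (CohB1.ProjSpace n k).Opens}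
    (hV : Small j V) {f : Γ(CohB1.ProjSpace n k, V)} (hf : f ∈ I.ideal ⟨V, hV.1⟩) :
    ∃ x : Γ(ClSub.idealMod I, V), val I x = f := exists_val_eq I ⟨V, hV.1⟩ hf

theorem val_add (I : (CohB1.ProjSpace n k).IdealSheafData) {V : (CohB1.ProjSpace n k).Opens}
    (x y : Γ(ClSub.idealMod I, V)) : val I (x + y) = val I x + val I y :=
  map_add ((ClSub.idealModι I).app V).hom x y

include hq H in
theorem isIso_unitIO : IsIso (unitIO l₁ l₂ m q) := by
  let I := II l₁ l₂ m q
  have hmono : Mono (unitIO l₁ l₂ m q) := by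
    refine mono_of_small _ fun j V hV z hz => ?_
    obtain ⟨r, rfl⟩ := (Fdesc.LocGen.ofFun (X := CohB1.ProjSpace n k) (U := V)).surjective z
    have hb := hb_affine j hV.2 hV.1 H
    have h1 : ∀ f ∈ I.ideal ⟨V, hV.1⟩, r * f = 0 := by
      intro f hf
      obtain ⟨x, rfl⟩ := exists_val I hV hf
      have h2 := comp_oMor (ClSub.idealModι I) V r x
      have h3 : (oMor (ClSub.idealModι I)).app V (Fdesc.LocGen.ofFun r) = 0 := hz
      rw [h3] at h2
      exact h2.symm
    have hm1 : r * (rho j hV.2 m.1 * rho j hV.2 l₁.1) = 0 :=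
      h1 _ ((mem_II_iff hq H j hV _).mpr ⟨0, 1, 0, by ring⟩)
    have hm2 : r * (rho j hV.2 m.1 * rho j hV.2 l₂.1) = 0 :=
      h1 _ ((mem_II_iff hq H j hV _).mpr ⟨0, 0, 1, by ring⟩)
    have h4 : rho j hV.2 m.1 * r = 0 := hb.k5 _ (by rw [← hm1]; ring) (by rw [← hm2]; ring)
    rw [hb.k4 _ h4, map_zero]
  have hepi : Epi (unitIO l₁ l₂ m q) := by
    refine epi_of_small _ fun j V hV y => ?_
    have hb := hb_affine j hV.2 hV.1 H
    change Γ(homSheaf (IM l₁ l₂ m q) (Coh.structureModule (CohB1.ProjSpace n k)), V) at y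
    set L1 := rho j hV.2 l₁.1 with hL1
    set L2 := rho j hV.2 l₂.1 with hL2
    set M := rho j hV.2 m.1 with hM
    set A := rho j hV.2 a.1 with hA
    set B := rho j hV.2 b.1 with hB
    let yl : Γ(IM l₁ l₂ m q, V) →ₗ[Γ(CohB1.ProjSpace n k, V)] Γ(Coh.structureModule (CohB1.ProjSpace n k), V) :=
      comp y V le_rfl
    obtain ⟨e0, he0⟩ := exists_val I hV (f := A * L1 + B * L2)
      ((mem_II_iff hq H j hV _).mpr ⟨1, 0, 0, by ring⟩)
    obtain ⟨e1, he1⟩ := exists_val I hV (f := M * L1) ((mem_II_iff hq H j hV _).mpr ⟨0, 1, 0, by ring⟩)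
    obtain ⟨e2, he2⟩ := exists_val I hV (f := M * L2) ((mem_II_iff hq H j hV _).mpr ⟨0, 0, 1, by ring⟩)
    have hinj := val_injective I V
    have r1 : M • e0 = A • e1 + B • e2 := by
      apply hinj
      rw [val_smul, val_add, val_smul, val_smul, he0, he1, he2]
      ring
    have r2 : L2 • e1 = L1 • e2 := by
      apply hinj
      rw [val_smul, val_smul, he1, he2]
      ring
    obtain ⟨x, hx⟩ := (Fdesc.LocGen.ofFun (X := CohB1.ProjSpace n k) (U := V)).surjective (yl e0)
    obtain ⟨y', hy'⟩ := (Fdesc.LocGen.ofFun (X := CohB1.ProjSpace n k) (U := V)).surjective (yl e1)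
    obtain ⟨z, hz⟩ := (Fdesc.LocGen.ofFun (X := CohB1.ProjSpace n k) (U := V)).surjective (yl e2)
    have q1 : M * x = A * y' + B * z := by
      apply (Fdesc.LocGen.ofFun (X := CohB1.ProjSpace n k) (U := V)).injective
      rw [map_add, ← smul_ofFun, ← smul_ofFun, ← smul_ofFun, hx, hy', hz, ← LinearMap.map_smul,
        ← LinearMap.map_smul, ← LinearMap.map_smul, ← LinearMap.map_add, r1]
    have q2 : L2 * y' = L1 * z := by
      apply (Fdesc.LocGen.ofFun (X := CohB1.ProjSpace n k) (U := V)).injective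
      rw [← smul_ofFun, ← smul_ofFun, hy', hz, ← LinearMap.map_smul, ← LinearMap.map_smul, r2]
    obtain ⟨t, t1, t2, t3⟩ := hb.dual x y' z q1 q2
    refine ⟨Fdesc.LocGen.ofFun t, ?_⟩
    refine comp_injective (isQCoh_idealMod I) hV.1 fun w => ?_
    have h5 : comp ((unitIO l₁ l₂ m q).app V (Fdesc.LocGen.ofFun t)) V le_rfl w =
        t • Fdesc.LocGen.ofFun (val I w) := comp_oMor _ _ _ _
    refine h5.trans ?_
    obtain ⟨x1, x2, x3, hw⟩ := (mem_II_iff hq H j hV _).mp (val_mem I ⟨V, hV.1⟩ w)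
    have hw' : w = x1 • e0 + x2 • e1 + x3 • e2 := by
      apply hinj
      rw [val_add, val_add, val_smul, val_smul, val_smul, he0, he1, he2]
      exact hw
    have h6 : comp y V le_rfl w = x1 • yl e0 + x2 • yl e1 + x3 • yl e2 := by
      rw [hw', ← LinearMap.map_smul, ← LinearMap.map_smul, ← LinearMap.map_smul, ← LinearMap.map_add,
        ← LinearMap.map_add]
    rw [h6, ← hx, ← hy', ← hz, smul_ofFun, smul_ofFun, smul_ofFun, smul_ofFun, ← map_add, ← map_add]
    congr 1
    refine (congrArg (t * ·) hw).trans ?_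
    rw [t1, t2, t3]
    simp only [hL1, hL2, hM, hA, hB]
    ring
  exact isIso_of_mono_of_epi _

end K715.HomIO
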