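import Groth.Agent.Sga2.PnHomExact
import Groth.Agent.PerfB.TensInv
import Groth.Agent.Fga.HShift

/-!
# The internal Hom sequences attached to a presentation `F₁ → F₀ → I → 0` and `0 → I → O → Q → 0`

`KK φ π = ker (Hom(F₀, O) → Hom(F₁, Q))`; there are exact sequences
`0 → Hom(F₀, I) → KK → Hom(I, Q) → 0` (`seqB`) and `0 → Hom(I, O) → KK → Hom(F₁, I) → 0` (`seqA`).
-/

set_option autoImplicit false

universe u

open CategoryTheory CategoryTheory.Limits AlgebraicGeometry TopologicalSpace Opposite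

namespace K715.HomSeq

open Groth.Agent Groth.Agent.CohqB.HomSheaf Groth.Agent.Sga2.PnHomAdj Groth.Agent.Sga2.PnHomExact

variable {X : Scheme.{u}}

/-! ### Exactness in the second variable -/

instance isRightAdjoint_homF (M : X.Modules) : (homF M).IsRightAdjoint := (homAdj M).isRightAdjoint

theorem homMapRight_comp (M : X.Modules) {N N' N'' : X.Modules} (f : N ⟶ N') (g : N' ⟶ N'') :
    homMapRight M f ≫ homMapRight M g = homMapRight M (f ≫ g) := rfl

theorem homMapRight_zero (M N N' : X.Modules) : homMapRight M (0 : N ⟶ N') = 0 := by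
  ext U s
  apply sec_ext
  intro V hV m
  rfl

instance (M : X.Modules) : (homF M).PreservesZeroMorphisms where
  map_zero N N' := homMapRight_zero M N N'

/-- The short complex `Hom(M, T₁) → Hom(M, T₂) → Hom(M, T₃)`. -/
noncomputable abbrev homSR (M : X.Modules) (T : ShortComplex X.Modules) : ShortComplex X.Modules :=
  T.map (homF M)

theorem mono_homMapRight (M : X.Modules) {N N' : X.Modules} (f : N ⟶ N') [Mono f] : Mono (homMapRight M f) :=
  inferInstanceAs (Mono ((homF M).map f))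

theorem exact_homSR (M : X.Modules) {T : ShortComplex X.Modules} (hT : T.Exact) [Mono T.f] :
    (homSR M T).Exact :=
  hT.map_of_mono_of_preservesKernel (homF M) inferInstance inferInstance

theorem epi_homMapRight {M : X.Modules} (hM : FlatMod.IsFinLocFree M) {T : ShortComplex X.Modules}
    (hT : T.ShortExact) (h₁ : Coh.IsQCoh T.X₁) : Epi (homMapRight M T.g) := by
  have hq : Coh.IsQCoh M := Ega2.QCohLocal.isQCoh_of_isFinLocFree hM
  apply PerfB.ModExact.epi_of_locally_surjective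
  intro U y x hx
  obtain ⟨V, hV, hxV, hVU, hfree, -⟩ := exists_affine_free hM hx
  refine ⟨V, hVU, hxV, ?_⟩
  have hsurj : Function.Surjective (appL T.g V) := by
    have := hT.epi_g
    have := hT.mono_f
    exact CohqB.QC5.app_surjective hT.exact h₁ hV
  obtain ⟨z, hz⟩ := Module.projective_lifting_property (appL T.g V) (comp y V hVU) hsurj
  refine ⟨(affineEquiv hq hV).symm z, ?_⟩
  refine comp_injective hq hV fun m => ?_
  have h1 : comp ((homMapRight M T.g).app V ((affineEquiv hq hV).symm z)) V le_rfl m =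
    appL T.g V (comp ((affineEquiv hq hV).symm z) V le_rfl m) := rfl
  rw [h1, comp_affineEquiv_symm]
  exact congrArg (fun f : Γ(M, V) →ₗ[Γ(X, V)] Γ(T.X₃, V) => f m) hz

/-! ### The two sequences -/

variable {F₁ F₀ I O Q : X.Modules} (φ : F₁ ⟶ F₀) (ψ : F₀ ⟶ I) (ι : I ⟶ O) (π : O ⟶ Q)

/-- `Hom(F₀, O) → Hom(F₁, Q)`. -/
noncomputable def dd : homSheaf F₀ O ⟶ homSheaf F₁ Q := homMapLeft φ O ≫ homMapRight F₁ π

theorem dd_eq : dd φ π = homMapRight F₀ π ≫ homMapLeft φ Q := rfl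

/-- `ker (Hom(F₀, O) → Hom(F₁, Q))`. -/
noncomputable def KK : X.Modules := kernel (dd φ π)

/-- the inclusion. -/
noncomputable def kι : KK φ π ⟶ homSheaf F₀ O := kernel.ι _

instance : Mono (kι φ π) := by unfold kι KK; infer_instance

theorem kι_dd : kι φ π ≫ dd φ π = 0 := kernel.condition _

variable {φ ψ ι π} (w1 : φ ≫ ψ = 0) (w2 : ι ≫ π = 0)

/-- `Hom(F₀, I) → KK`. -/
noncomputable def bf (φ : F₁ ⟶ F₀) : homSheaf F₀ I ⟶ KK φ π := kernel.lift _ (homMapRight F₀ ι) (by
  rw [dd_eq, ← Category.assoc, homMapRight_comp, w2, homMapRight_zero, zero_comp])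

theorem bf_ι : bf w2 φ ≫ kι φ π = homMapRight F₀ ι := kernel.lift_ι _ _ _

/-- `Hom(I, O) → KK`. -/
noncomputable def af (π : O ⟶ Q) : homSheaf I O ⟶ KK φ π := kernel.lift _ (homMapLeft ψ O) (by
  rw [dd, ← Category.assoc, homMapLeft_comp, w1, homMapLeft_zero, zero_comp])

theorem af_ι : af w1 π ≫ kι φ π = homMapLeft ψ O := kernel.lift_ι _ _ _

section

variable (hS : (ShortComplex.mk φ ψ w1).ShortExact) (hT : (ShortComplex.mk ι π w2).ShortExact)
  (h₁ : Coh.IsQCoh F₁) (h₀ : Coh.IsQCoh F₀)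

include hS h₁ h₀ in
theorem exact_left (P : X.Modules) : (homSC (ShortComplex.mk φ ψ w1) P).Exact :=
  exact_homSC hS h₁ h₀ P

/-- `KK → Hom(I, Q)`. -/
noncomputable def bg : KK φ π ⟶ homSheaf I Q :=
  have : Mono (homSC (ShortComplex.mk φ ψ w1) Q).f := by
    have := hS.epi_g
    exact mono_homMapLeft ψ Q
  (exact_left w1 hS h₁ h₀ Q).lift (kι φ π ≫ homMapRight F₀ π) (kι_dd φ π)

theorem bg_comp : bg w1 hS h₁ h₀ ≫ homMapLeft ψ Q = kι φ π ≫ homMapRight F₀ π := by
  have : Mono (homSC (ShortComplex.mk φ ψ w1) Q).f := by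
    have := hS.epi_g
    exact mono_homMapLeft ψ Q
  exact (exact_left w1 hS h₁ h₀ Q).lift_f (kι φ π ≫ homMapRight F₀ π) (kι_dd φ π)

include hT in
theorem mono_ι : Mono ι := hT.mono_f

/-- `KK → Hom(F₁, I)`. -/
noncomputable def ag : KK φ π ⟶ homSheaf F₁ I :=
  have : Mono ι := hT.mono_f
  have : Mono (homSR F₁ (ShortComplex.mk ι π w2)).f := mono_homMapRight F₁ ι
  (exact_homSR F₁ hT.exact).lift (kι φ π ≫ homMapLeft φ O) (kι_dd φ π)

theorem ag_comp : ag (φ := φ) w2 hT ≫ homMapRight F₁ ι = kι φ π ≫ homMapLeft φ O := by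
  have : Mono ι := hT.mono_f
  have : Mono (homSR F₁ (ShortComplex.mk ι π w2)).f := mono_homMapRight F₁ ι
  exact (exact_homSR F₁ hT.exact).lift_f (kι φ π ≫ homMapLeft φ O) (kι_dd φ π)

theorem bf_bg : bf w2 φ ≫ bg w1 hS h₁ h₀ = 0 := by
  have : Mono (homMapLeft ψ Q) := by
    have := hS.epi_g
    exact mono_homMapLeft ψ Q
  rw [← cancel_mono (homMapLeft ψ Q), Category.assoc, bg_comp, ← Category.assoc, bf_ι, homMapRight_comp, w2,
    homMapRight_zero, zero_comp]

theorem af_ag : af w1 π ≫ ag w2 hT = 0 := by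
  have : Mono ι := hT.mono_f
  have : Mono (homMapRight F₁ ι) := mono_homMapRight F₁ ι
  rw [← cancel_mono (homMapRight F₁ ι), Category.assoc, ag_comp, ← Category.assoc, af_ι, homMapLeft_comp, w1,
    homMapLeft_zero, zero_comp]

set_option maxHeartbeats 400000

include hT in
theorem mono_bf : Mono (bf w2 φ) := by
  have h0 : Mono ι := hT.mono_f
  have h : Mono (bf w2 φ ≫ kι φ π) := by rw [bf_ι]; exact mono_homMapRight F₀ ι
  exact mono_of_mono _ (kι φ π)

include hT in
theorem exact_b : (ShortComplex.mk (bf w2 φ) (bg w1 hS h₁ h₀) (bf_bg w1 w2 hS h₁ h₀)).Exact := by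
  have h0 : Mono ι := hT.mono_f
  have h0' : Mono (homSR F₀ (ShortComplex.mk ι π w2)).f := mono_homMapRight F₀ ι
  refine PerfB.ModExact.exact_of_locally_lifts _ fun U y hy x hx => ⟨U, le_rfl, hx, ?_⟩
  change Γ(KK φ π, U) at y
  change (bg w1 hS h₁ h₀).app U y = 0 at hy
  have h1 : (homMapRight F₀ π).app U ((kι φ π).app U y) = 0 := by
    change (kι φ π ≫ homMapRight F₀ π).app U y = 0
    rw [← bg_comp w1 hS h₁ h₀]
    change (homMapLeft ψ Q).app U ((bg w1 hS h₁ h₀).app U y) = 0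
    rw [hy, map_zero]
  obtain ⟨z, hz⟩ := CohqB.QC4.exists_of_exact (exact_homSR F₀ hT.exact) U ((kι φ π).app U y) h1
  refine ⟨z, ?_⟩
  apply PerfB.ModExact.app_injective_of_mono (kι φ π) U
  have h2 : (kι φ π).app U ((bf w2 φ).app U z) = (homMapRight F₀ ι).app U z := by
    rw [← bf_ι w2]; rfl
  have h3 : (homMapRight F₀ ι).app U z = (kι φ π).app U y := hz
  refine (h2.trans h3).trans ?_
  exact congrArg ((kι φ π).app U) (Groth.Agent.Fdesc.LocGen.res_refl _ y).symm

include hT in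
theorem epi_bg (hF : FlatMod.IsFinLocFree F₀) (hI : Coh.IsQCoh I) : Epi (bg (π := π) w1 hS h₁ h₀) := by
  have hep : Epi (homMapRight F₀ π) := epi_homMapRight (T := ShortComplex.mk ι π w2) hF hT hI
  have hmo : Mono (homMapLeft ψ Q) := by
    have := hS.epi_g
    exact mono_homMapLeft ψ Q
  apply PerfB.ModExact.epi_of_locally_surjective
  intro U y x hx
  obtain ⟨V, hVU, t, hxV, ht⟩ := Dcoh.Restrict.exists_local_preimage (homMapRight F₀ π) U
    ((homMapLeft ψ Q).app U y) x hx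
  have h1 : (dd φ π).app V t = 0 := by
    rw [dd_eq]
    change (homMapLeft φ Q).app V ((homMapRight F₀ π).app V t) = 0
    rw [ht]
    have h2 : (homMapLeft φ Q).app U ((homMapLeft ψ Q).app U y) = 0 := by
      change (homMapLeft ψ Q ≫ homMapLeft φ Q).app U y = 0
      rw [homMapLeft_comp, w1, homMapLeft_zero]; rfl
    have h3 := Groth.Agent.Fdesc.LocGen.app_res (homMapLeft φ Q) hVU ((homMapLeft ψ Q).app U y)
    refine h3.trans ?_
    rw [h2, map_zero]
  obtain ⟨z, hz⟩ := PerfB.ModExact.exists_app_of_isLimit (kι φ π) (dd φ π) (kι_dd φ π)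
    (kernelIsKernel (dd φ π)) V t h1
  refine ⟨V, hVU, hxV, z, ?_⟩
  apply PerfB.ModExact.app_injective_of_mono (homMapLeft ψ Q) V
  have h2 : (homMapLeft ψ Q).app V ((bg w1 hS h₁ h₀).app V z) = (homMapRight F₀ π).app V t := by
    change (bg w1 hS h₁ h₀ ≫ homMapLeft ψ Q).app V z = _
    rw [bg_comp, ← hz]; rfl
  refine (h2.trans ht).trans ?_
  exact (Groth.Agent.Fdesc.LocGen.app_res (homMapLeft ψ Q) hVU y).symm

include hT in
/-- `0 → Hom(F₀, I) → KK → Hom(I, Q) → 0`. -/
theorem seqB (hF : FlatMod.IsFinLocFree F₀) (hI : Coh.IsQCoh I) :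
    (ShortComplex.mk (bf w2 φ) (bg w1 hS h₁ h₀) (bf_bg w1 w2 hS h₁ h₀)).ShortExact where
  exact := exact_b w1 w2 hS hT h₁ h₀
  mono_f := mono_bf w2 hT
  epi_g := epi_bg w1 w2 hS hT h₁ h₀ hF hI

include hS in
theorem mono_af : Mono (af (π := π) w1) := by
  have h : Mono (af w1 π ≫ kι φ π) := by
    rw [af_ι]
    have := hS.epi_g
    exact mono_homMapLeft ψ O
  exact mono_of_mono _ (kι φ π)

include hS h₁ h₀ in
theorem exact_a : (ShortComplex.mk (af w1 π) (ag w2 hT) (af_ag w1 w2 hT)).Exact := by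
  have hm : Mono (homSC (ShortComplex.mk φ ψ w1) O).f := by
    have := hS.epi_g
    exact mono_homMapLeft ψ O
  refine PerfB.ModExact.exact_of_locally_lifts _ fun U y hy x hx => ⟨U, le_rfl, hx, ?_⟩
  change Γ(KK φ π, U) at y
  change (ag w2 hT).app U y = 0 at hy
  have h1 : (homMapLeft φ O).app U ((kι φ π).app U y) = 0 := by
    change (kι φ π ≫ homMapLeft φ O).app U y = 0
    rw [← ag_comp w2 hT]
    change (homMapRight F₁ ι).app U ((ag w2 hT).app U y) = 0
    rw [hy, map_zero]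
  obtain ⟨z, hz⟩ := CohqB.QC4.exists_of_exact (exact_left w1 hS h₁ h₀ O) U ((kι φ π).app U y) h1
  refine ⟨z, ?_⟩
  apply PerfB.ModExact.app_injective_of_mono (kι φ π) U
  have h2 : (kι φ π).app U ((af w1 π).app U z) = (homMapLeft ψ O).app U z := by
    rw [← af_ι w1]; rfl
  have h3 : (homMapLeft ψ O).app U z = (kι φ π).app U y := hz
  refine (h2.trans h3).trans ?_
  exact congrArg ((kι φ π).app U) (Groth.Agent.Fdesc.LocGen.res_refl _ y).symm

include hS h₁ h₀ in
/-- `0 → Hom(I, O) → KK → Hom(F₁, I) → 0`. -/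
theorem seqA (hepi : Epi (ag (φ := φ) w2 hT)) :
    (ShortComplex.mk (af w1 π) (ag w2 hT) (af_ag w1 w2 hT)).ShortExact where
  exact := exact_a w1 w2 hS hT h₁ h₀
  mono_f := mono_af w1 hS
  epi_g := hepi

end

end K715.HomSeq
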