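import Groth.Agent.Fano.K715.Dim
import Groth.Agent.Fano.K715.HBRing

/-!
# From the hypotheses of the statements on a plane union a quadric in `P⁴` to the facts `HB`
-/

set_option autoImplicit false

universe u

open CategoryTheory CategoryTheory.Limits AlgebraicGeometry TopologicalSpace Opposite

namespace K715.Hyp

open LefPen K715.LinForms K715.HBAlg K715.HBRing

/-- The facts `HB` from the frozen hypotheses. -/
theorem hb_of_dim {k : Type u} [Field k] [IsAlgClosed k]
    (l₁ l₂ m : LefPen.Form 4 k 1) (hlin : LinearIndependent k ![l₁, l₂, m])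
    (q : LefPen.Form 4 k 2) (a b c : LefPen.Form 4 k 1) (hq : q.1 = a.1 * l₁.1 + b.1 * l₂.1 + c.1 * m.1)
    (hdim : topologicalKrullDim ↥(LefPen.hypIdeal m ⊔ LefPen.hypIdeal q).subscheme = 2) :
    HB l₁.1 l₂.1 m.1 a.1 b.1 := by
  have hnd : ¬ m.1 ∣ q.1 := by
    refine K715.Dim.not_dvd (by norm_num) m q ?_
    rw [hdim]
    norm_num
  refine HB.of_forms l₁ l₂ m hlin a.1 b.1 fun h => hnd ?_
  rw [hq]
  exact (dvd_add_right h).mpr (Dvd.intro_left _ rfl)

end K715.Hyp
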