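import Groth.Agent.Fano.K715.Res2
import Groth.Agent.Fano.K715.Hyp
import Groth.Agent.Divis.RegImm
import Groth.Agent.Divis.RegStalk
import Groth.Agent.Lefpen.H703.RegCrit
import Groth.Agent.VarietyA.RegSmoothSch
import Groth.Agent.Sga5.ProjSmooth

/-!
# A plane union a smooth quadric surface in `P⁴` is a local complete intersection
-/

set_option autoImplicit false

universe u

open CategoryTheory CategoryTheory.Limits AlgebraicGeometry TopologicalSpace Opposite IsLocalRing

namespace K715.Lci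

open LefPen K715.LinForms K715.HBAlg K715.HBRing K715.Geo K715.Gens K715.Pair K715.Res K715.Res2
open Groth.Agent Groth.Agent.Lefpen.H705.HypIdeal Groth.Agent.Lefpen.H705.ChartPoly
open Groth.Agent.Fdesc.LocGen

section ring

variable {R : Type*} [CommRing R]

theorem wr_pair {x y : R} (h1 : ∀ z, x * z = 0 → z = 0) (h2 : ∀ z w, y * z = x * w → ∃ t, z = x * t) :
    RingTheory.Sequence.IsWeaklyRegular R [x, y] := by
  rw [RingTheory.Sequence.isWeaklyRegular_cons_iff, RingTheory.Sequence.isWeaklyRegular_cons_iff]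
  refine ⟨?_, ?_, RingTheory.Sequence.IsWeaklyRegular.nil _ _⟩
  · intro z w hzw
    have h3 : x * (z - w) = 0 := by
      have : x * z = x * w := hzw
      rw [mul_sub, this, sub_self]
    exact sub_eq_zero.mp (h1 _ h3)
  · rw [isSMulRegular_iff_right_eq_zero_of_smul]
    intro z hz
    induction z using Submodule.Quotient.induction_on with
    | _ z =>
      rw [← Submodule.Quotient.mk_smul, Submodule.Quotient.mk_eq_zero] at hz
      rw [Submodule.Quotient.mk_eq_zero]
      rw [Submodule.mem_smul_pointwise_iff_exists] at hz ⊢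
      obtain ⟨w, -, hw⟩ := hz
      obtain ⟨t, ht⟩ := h2 z w hw.symm
      exact ⟨t, trivial, ht.symm⟩

variable {l₁ l₂ m a b : R} (H : HB l₁ l₂ m a b)

include H in
theorem wr_mq : RingTheory.Sequence.IsWeaklyRegular R [m, a * l₁ + b * l₂] :=
  wr_pair H.k4 H.k3

include H in
theorem wr_ll (h : ∀ z, l₁ * z = 0 → z = 0) : RingTheory.Sequence.IsWeaklyRegular R [l₁, l₂] := by
  refine wr_pair h fun z w hz => ?_
  obtain ⟨t, h1, h2⟩ := H.k1 (-w) z (by linear_combination hz)
  exact ⟨-t, by rw [h2]; ring⟩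

include H in
theorem wr_q2 (h : ∀ z, (a * l₁ + b * l₂) * z = 0 → z = 0) (ha : IsUnit a) :
    RingTheory.Sequence.IsWeaklyRegular R [a * l₁ + b * l₂, m * l₂] := by
  refine wr_pair h fun y z hz => ?_
  obtain ⟨a', ha'⟩ := ha.exists_left_inv
  obtain ⟨t, ht⟩ := H.k3 z (l₂ * y) (by linear_combination -hz)
  have h1 : m * (l₂ * y - t * (a * l₁ + b * l₂)) = 0 := by rw [ht] at hz; linear_combination hz
  have h2 := H.k4 _ h1
  obtain ⟨s, h3, h4⟩ := H.k1 (-(t * a)) (y - t * b) (by linear_combination h2)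
  refine ⟨-(s * a'), ?_⟩
  linear_combination h4 - (a' * b) * h3 + (s * l₁ - t * b) * ha'

include H in
theorem wr_q1 (h : ∀ z, (a * l₁ + b * l₂) * z = 0 → z = 0) (hb : IsUnit b) :
    RingTheory.Sequence.IsWeaklyRegular R [a * l₁ + b * l₂, m * l₁] := by
  refine wr_pair h fun y z hz => ?_
  obtain ⟨b', hb'⟩ := hb.exists_left_inv
  obtain ⟨t, ht⟩ := H.k3 z (l₁ * y) (by linear_combination -hz)
  have h1 : m * (l₁ * y - t * (a * l₁ + b * l₂)) = 0 := by rw [ht] at hz; linear_combination hz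
  have h2 := H.k4 _ h1
  obtain ⟨s, h3, h4⟩ := H.k1 (y - t * a) (-(t * b)) (by linear_combination h2)
  refine ⟨s * b', ?_⟩
  linear_combination h3 - (b' * a) * h4 - (s * l₂ + t * a) * hb'

theorem ofList_pair (x y : R) : Ideal.ofList [x, y] = Ideal.span {x, y} := by
  rw [Ideal.ofList_cons, Ideal.ofList_singleton, ← Ideal.span_insert]

theorem span_l1 (h : IsUnit l₁) : Ideal.span {a * l₁ + b * l₂, m * l₁, m * l₂} =
    Ideal.ofList [m, a * l₁ + b * l₂] := by
  obtain ⟨u, hu⟩ := h.exists_left_inv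
  rw [ofList_pair]
  apply le_antisymm <;> rw [Ideal.span_le]
  · rintro x (rfl | rfl | rfl)
    · exact Ideal.subset_span (by simp)
    · exact Ideal.mul_mem_right _ _ (Ideal.subset_span (by simp))
    · exact Ideal.mul_mem_right _ _ (Ideal.subset_span (by simp))
  · rintro x (rfl | rfl)
    · have h3 : u * (x * l₁) ∈ (Ideal.span {a * l₁ + b * l₂, x * l₁, x * l₂} : Ideal R) :=
        Ideal.mul_mem_left _ _ (Ideal.subset_span (by simp))
      have h4 : u * (x * l₁) = x := by linear_combination x * hu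
      rwa [h4] at h3
    · exact Ideal.subset_span (by simp)

theorem span_l2 (h : IsUnit l₂) : Ideal.span {a * l₁ + b * l₂, m * l₁, m * l₂} =
    Ideal.ofList [m, a * l₁ + b * l₂] := by
  obtain ⟨u, hu⟩ := h.exists_left_inv
  rw [ofList_pair]
  apply le_antisymm <;> rw [Ideal.span_le]
  · rintro x (rfl | rfl | rfl)
    · exact Ideal.subset_span (by simp)
    · exact Ideal.mul_mem_right _ _ (Ideal.subset_span (by simp))
    · exact Ideal.mul_mem_right _ _ (Ideal.subset_span (by simp))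
  · rintro x (rfl | rfl)
    · have h3 : u * (x * l₂) ∈ (Ideal.span {a * l₁ + b * l₂, x * l₁, x * l₂} : Ideal R) :=
        Ideal.mul_mem_left _ _ (Ideal.subset_span (by simp))
      have h4 : u * (x * l₂) = x := by linear_combination x * hu
      rwa [h4] at h3
    · exact Ideal.subset_span (by simp)

theorem span_m (h : IsUnit m) : Ideal.span {a * l₁ + b * l₂, m * l₁, m * l₂} =
    Ideal.ofList [l₁, l₂] := by
  obtain ⟨u, hu⟩ := h.exists_left_inv
  rw [ofList_pair]
  apply le_antisymm <;> rw [Ideal.span_le]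
  · rintro x (rfl | rfl | rfl)
    · exact add_mem (Ideal.mul_mem_left _ _ (Ideal.subset_span (by simp)))
        (Ideal.mul_mem_left _ _ (Ideal.subset_span (by simp)))
    · exact Ideal.mul_mem_left _ _ (Ideal.subset_span (by simp))
    · exact Ideal.mul_mem_left _ _ (Ideal.subset_span (by simp))
  · rintro x (rfl | rfl)
    · have h3 : u * (m * x) ∈ (Ideal.span {a * x + b * l₂, m * x, m * l₂} : Ideal R) :=
        Ideal.mul_mem_left _ _ (Ideal.subset_span (by simp))
      have h4 : u * (m * x) = x := by linear_combination x * hu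
      rwa [h4] at h3
    · have h3 : u * (m * x) ∈ (Ideal.span {a * l₁ + b * x, m * l₁, m * x} : Ideal R) :=
        Ideal.mul_mem_left _ _ (Ideal.subset_span (by simp))
      have h4 : u * (m * x) = x := by linear_combination x * hu
      rwa [h4] at h3

theorem span_a (h : IsUnit a) : Ideal.span {a * l₁ + b * l₂, m * l₁, m * l₂} =
    Ideal.ofList [a * l₁ + b * l₂, m * l₂] := by
  obtain ⟨u, hu⟩ := h.exists_left_inv
  rw [ofList_pair]
  apply le_antisymm <;> rw [Ideal.span_le]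
  · rintro x (rfl | rfl | rfl)
    · exact Ideal.subset_span (by simp)
    · have : m * l₁ = (u * m) * (a * l₁ + b * l₂) - (u * b) * (m * l₂) := by linear_combination -(m * l₁) * hu
      rw [SetLike.mem_coe, this]
      exact sub_mem (Ideal.mul_mem_left _ _ (Ideal.subset_span (by simp)))
        (Ideal.mul_mem_left _ _ (Ideal.subset_span (by simp)))
    · exact Ideal.subset_span (by simp)
  · rintro x (rfl | rfl)
    · exact Ideal.subset_span (by simp)
    · exact Ideal.subset_span (by simp)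

theorem span_b (h : IsUnit b) : Ideal.span {a * l₁ + b * l₂, m * l₁, m * l₂} =
    Ideal.ofList [a * l₁ + b * l₂, m * l₁] := by
  obtain ⟨u, hu⟩ := h.exists_left_inv
  rw [ofList_pair]
  apply le_antisymm <;> rw [Ideal.span_le]
  · rintro x (rfl | rfl | rfl)
    · exact Ideal.subset_span (by simp)
    · exact Ideal.subset_span (by simp)
    · have : m * l₂ = (u * m) * (a * l₁ + b * l₂) - (u * a) * (m * l₁) := by linear_combination -(m * l₂) * hu
      rw [SetLike.mem_coe, this]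
      exact sub_mem (Ideal.mul_mem_left _ _ (Ideal.subset_span (by simp)))
        (Ideal.mul_mem_left _ _ (Ideal.subset_span (by simp)))
  · rintro x (rfl | rfl)
    · exact Ideal.subset_span (by simp)
    · exact Ideal.subset_span (by simp)

end ring

section geo

variable {n : ℕ} {k : Type u} [Field k]

/-- Nonzero forms are nonzerodivisors over small opens. -/
theorem rho_regular (j : Fin (n + 1)) {V : (CohB1.ProjSpace n k).Opens} (hV : Small j V) {d : ℕ} (G : Form n k d)
    (hG : G.1 ≠ 0) : ∀ z, rho j hV.2 G.1 * z = 0 → z = 0 := by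
  have h1 : MatExact (0 : Matrix (Fin 1) (Fin 0) (MvPolynomial (Fin (n + 1)) k)) (!![G.1]) := by
    intro v hv
    have h := congrFun hv 0
    simp [Matrix.mulVec, dotProduct] at h
    refine ⟨Fin.elim0, ?_⟩
    funext i; fin_cases i
    simpa [Matrix.mulVec, dotProduct] using h.resolve_left (fun h0 => hG (by rw [h0]; rfl))
  have h2 := matExact_dehom j _ _ h1 (fun _ => 0) (fun _ => d) (fun _ _ => d) (by intros; rfl) (by
    intro i l; fin_cases i; fin_cases l
    exact (MvPolynomial.mem_homogeneousSubmodule _ _).mp G.2)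
  have h3 := matExact_flat _ (flat_chart j hV.2 hV.1) _ _ h2
  intro z hz
  obtain ⟨w, hw⟩ := h3 (fun _ => z) (by
    funext i; fin_cases i
    simp only [Matrix.mulVec, dotProduct, Finset.univ_unique, Finset.sum_singleton]
    exact hz)
  have h4 := congrFun hw 0
  simpa [Matrix.mulVec, dotProduct] using h4

theorem isUnit_rho (j : Fin (n + 1)) {V : (CohB1.ProjSpace n k).Opens} (hV : V ≤ chart n k j)
    (F : MvPolynomial (Fin (n + 1)) k)
    (h : V ≤ (CohB1.ProjSpace n k).basicOpen (rho j (le_refl (chart n k j)) F)) : IsUnit (rho j hV F) := by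
  have h1 := (CohB1.ProjSpace n k).toRingedSpace.isUnit_res_basicOpen (rho j (le_refl (chart n k j)) F)
  have h2 : IsUnit (ores ((CohB1.ProjSpace n k).basicOpen_le _) (rho j (le_refl (chart n k j)) F)) := h1
  have h3 := h2.map (ores h)
  rw [ores_ores, ores_rho] at h3
  exact h3

theorem exists_small_le {j : Fin (n + 1)} {W : (CohB1.ProjSpace n k).Opens} {x : CohB1.ProjSpace n k}
    (hx : x ∈ W) (hj : x ∈ chart n k j) : ∃ V, Small j V ∧ x ∈ V ∧ V ≤ W := by
  obtain ⟨V, hV, hxV, hVU⟩ := Opens.isBasis_iff_nbhd.mp (CohB1.ProjSpace n k).isBasis_affineOpens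
    (show x ∈ W ⊓ chart n k j from ⟨hx, hj⟩)
  exact ⟨V, ⟨hV, hVU.trans inf_le_right⟩, hxV, hVU.trans inf_le_left⟩

/-- The value of a polynomial in the stalk. -/
noncomputable def gam (j : Fin (n + 1)) (x : CohB1.ProjSpace n k) (hx : x ∈ chart n k j) :
    MvPolynomial (Fin (n + 1)) k →+* (CohB1.ProjSpace n k).presheaf.stalk x :=
  ((CohB1.ProjSpace n k).presheaf.germ (chart n k j) x hx).hom.comp (rho j (le_refl (chart n k j)))

theorem gam_mem_iff (j : Fin (n + 1)) (x : CohB1.ProjSpace n k) (hx : x ∈ chart n k j)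
    (F : MvPolynomial (Fin (n + 1)) k) :
    gam j x hx F ∈ maximalIdeal ((CohB1.ProjSpace n k).presheaf.stalk x) ↔
      x ∉ (CohB1.ProjSpace n k).basicOpen (rho j (le_refl (chart n k j)) F) := by
  rw [mem_maximalIdeal, mem_nonunits_iff, Scheme.mem_basicOpen _ _ x hx]
  rfl

theorem flat_germ {X : Scheme.{u}} {U : X.Opens} (hU : IsAffineOpen U) (x : X) (hx : x ∈ U) :
    (X.presheaf.germ U x hx).hom.Flat := by
  let := X.presheaf.algebra_section_stalk ⟨x, hx⟩
  have := hU.isLocalization_stalk ⟨x, hx⟩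
  have h : Module.Flat Γ(X, U) (X.presheaf.stalk x) :=
    IsLocalization.flat (X.presheaf.stalk x) (hU.primeIdealOf ⟨x, hx⟩).asIdeal.primeCompl
  exact h

theorem isRegular_stalk (x : CohB1.ProjSpace n k) :
    IsRegularLocalRing ((CohB1.ProjSpace n k).presheaf.stalk x) := by
  have : Smooth (CohB1.ProjSpace.toSpec n k) := SmoothOfRelativeDimension.smooth n _
  exact VarietyA.RegSmoothSch.isRegularLocalRing_stalk_of_mem_smoothLocus (CohB1.ProjSpace.toSpec n k) x
    (by rw [Scheme.Hom.smoothLocus_eq_top]; trivial)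

variable {l₁ l₂ m a b : Form n k 1} {q : Form n k 2} {c : Form n k 1}
  (hq : q.1 = a.1 * l₁.1 + b.1 * l₂.1 + c.1 * m.1) (H : HB l₁.1 l₂.1 m.1 a.1 b.1)

include hq in
/-- The ideal of the quadric surface. -/
theorem ideal_quadric (j : Fin (n + 1)) {V : (CohB1.ProjSpace n k).Opens} (hV : Small j V) :
    (hypIdeal m ⊔ hypIdeal q).ideal ⟨V, hV.1⟩ =
      Ideal.span {rho j hV.2 m.1, rho j hV.2 (a.1 * l₁.1 + b.1 * l₂.1)} := by
  have h1 : (hypIdeal m ⊔ hypIdeal q).ideal ⟨V, hV.1⟩ =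
      (hypIdeal m).ideal ⟨V, hV.1⟩ ⊔ (hypIdeal q).ideal ⟨V, hV.1⟩ := rfl
  rw [h1, ideal_hyp j ⟨V, hV.1⟩ hV.2, ideal_hyp j ⟨V, hV.1⟩ hV.2, ← Ideal.span_insert, hq]
  rw [map_add (rho j hV.2) (a.1 * l₁.1 + b.1 * l₂.1), map_mul (rho j hV.2) c.1]
  apply le_antisymm
  · rw [Ideal.span_le]
    rintro x (rfl | rfl)
    · exact Ideal.subset_span (by simp)
    · exact add_mem (Ideal.subset_span (by simp)) (Ideal.mul_mem_left _ _ (Ideal.subset_span (by simp)))
  · rw [Ideal.span_le]
    rintro x (rfl | rfl)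
    · exact Ideal.subset_span (by simp)
    · have h2 : rho j hV.2 (a.1 * l₁.1 + b.1 * l₂.1) =
            (rho j hV.2 (a.1 * l₁.1 + b.1 * l₂.1) + rho j hV.2 c.1 * rho j hV.2 m.1) -
              rho j hV.2 c.1 * rho j hV.2 m.1 := by ring
      rw [SetLike.mem_coe, h2]
      exact sub_mem (Ideal.subset_span (by simp)) (Ideal.mul_mem_left _ _ (Ideal.subset_span (by simp)))

include hq H in
/-- At a point of the line `V₊(l₁, l₂, m)` one of `a`, `b` does not vanish, if the quadric surface is smooth. -/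
theorem a_or_b (hsm : Smooth ((hypIdeal m ⊔ hypIdeal q).subschemeι ≫ CohB1.ProjSpace.toSpec n k))
    (j : Fin (n + 1)) (x : CohB1.ProjSpace n k) (hx : x ∈ chart n k j)
    (h1 : gam j x hx l₁.1 ∈ maximalIdeal ((CohB1.ProjSpace n k).presheaf.stalk x))
    (h2 : gam j x hx l₂.1 ∈ maximalIdeal ((CohB1.ProjSpace n k).presheaf.stalk x))
    (hm : gam j x hx m.1 ∈ maximalIdeal ((CohB1.ProjSpace n k).presheaf.stalk x))
    (ha : gam j x hx a.1 ∈ maximalIdeal ((CohB1.ProjSpace n k).presheaf.stalk x))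
    (hb : gam j x hx b.1 ∈ maximalIdeal ((CohB1.ProjSpace n k).presheaf.stalk x)) : False := by
  let R := (CohB1.ProjSpace n k).presheaf.stalk x
  have hR : IsRegularLocalRing R := isRegular_stalk x
  have hU : Small j (chart n k j) := ⟨isAffineOpen_chart j, le_rfl⟩
  set I₂ := hypIdeal m ⊔ hypIdeal q with hI₂
  set γ := gam j x hx with hγ
  have hqm : γ (a.1 * l₁.1 + b.1 * l₂.1) ∈ maximalIdeal R ^ 2 := by
    rw [map_add, map_mul, map_mul, pow_two]
    exact add_mem (Ideal.mul_mem_mul ha h1) (Ideal.mul_mem_mul hb h2)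
  have hqm' : γ (a.1 * l₁.1 + b.1 * l₂.1) ∈ maximalIdeal R := Ideal.pow_le_self two_ne_zero hqm
  have hmap : (I₂.ideal ⟨chart n k j, isAffineOpen_chart j⟩).map
      ((CohB1.ProjSpace n k).presheaf.germ (chart n k j) x hx).hom =
        Ideal.span {γ m.1, γ (a.1 * l₁.1 + b.1 * l₂.1)} := by
    rw [ideal_quadric hq j hU, Ideal.map_span, Set.image_pair]
    rfl
  have hsupp : x ∈ I₂.support := by
    rw [Scheme.IdealSheafData.mem_support_iff_of_mem (U := ⟨chart n k j, isAffineOpen_chart j⟩) hx,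
      Scheme.mem_zeroLocus_iff]
    intro f hf hfx
    rw [Scheme.mem_basicOpen _ _ x hx] at hfx
    have h3 := Ideal.mem_map_of_mem ((CohB1.ProjSpace n k).presheaf.germ (chart n k j) x hx).hom hf
    rw [hmap] at h3
    have h4 : Ideal.span {γ m.1, γ (a.1 * l₁.1 + b.1 * l₂.1)} ≤ maximalIdeal R := by
      rw [Ideal.span_le]
      rintro y (rfl | rfl)
      · exact hm
      · exact hqm'
    exact (mem_maximalIdeal _).mp (h4 h3) hfx
  obtain ⟨z, rfl⟩ : ∃ z, I₂.subschemeι z = x := by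
    have : x ∈ Set.range I₂.subschemeι := by rw [I₂.range_subschemeι]; exact hsupp
    exact this
  have hB : IsRegularLocalRing (I₂.subscheme.presheaf.stalk z) :=
    VarietyA.RegSmoothSch.isRegularLocalRing_stalk_of_mem_smoothLocus
      (I₂.subschemeι ≫ CohB1.ProjSpace.toSpec n k) z (by rw [Scheme.Hom.smoothLocus_eq_top]; trivial)
  have hker : RingHom.ker (I₂.subschemeι.stalkMap z).hom = Ideal.span {γ m.1, γ (a.1 * l₁.1 + b.1 * l₂.1)} := by
    rw [Divis.RegStalk.ker_stalkMap I₂.subschemeι z ⟨chart n k j, isAffineOpen_chart j⟩ hx, I₂.ker_subschemeι, hmap]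
  have hsurj : Function.Surjective (I₂.subschemeι.stalkMap z).hom := I₂.subschemeι.stalkMap_surjective z
  have hwr : RingTheory.Sequence.IsWeaklyRegular R [γ m.1, γ (a.1 * l₁.1 + b.1 * l₂.1)] := by
    have h5 := Divis.RegImm.isWeaklyRegular_map_of_flat _ (flat_germ (isAffineOpen_chart j) _ hx)
      (wr_mq (hb_affine j hU.2 hU.1 H))
    simp only [List.map_cons, List.map_nil] at h5
    rw [← map_mul, ← map_mul, ← map_add] at h5
    exact h5
  have hreg : RingTheory.Sequence.IsRegular R [γ m.1, γ (a.1 * l₁.1 + b.1 * l₂.1)] := by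
    rw [Divis.RegImm.isRegular_iff_ne_top]
    refine ⟨hwr, fun htop => ?_⟩
    have h6 : Ideal.ofList [γ m.1, γ (a.1 * l₁.1 + b.1 * l₂.1)] ≤ maximalIdeal R := by
      rw [Ideal.ofList_cons, Ideal.ofList_singleton, sup_le_iff, Ideal.span_singleton_le_iff_mem,
        Ideal.span_singleton_le_iff_mem]
      exact ⟨hm, hqm'⟩
    rw [htop] at h6
    exact (maximalIdeal.isMaximal R).ne_top (top_le_iff.mp h6)
  have hofl : Ideal.ofList [γ m.1, γ (a.1 * l₁.1 + b.1 * l₂.1)] = Ideal.span {γ m.1, γ (a.1 * l₁.1 + b.1 * l₂.1)} := by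
    rw [Ideal.ofList_cons, Ideal.ofList_singleton, ← Ideal.span_insert]
  have hdim : ringKrullDim (I₂.subscheme.presheaf.stalk z) + ((2 : ℕ) : WithBot ℕ∞) = ringKrullDim R := by
    have h7 := ringKrullDim_add_length_eq_ringKrullDim_of_isRegular _ hreg
    rw [hofl, ← hker] at h7
    rw [← h7, ringKrullDim_eq_of_ringEquiv (RingHom.quotientKerEquivOfSurjective hsurj)]
    rfl
  have h8 := Lefpen.H703.RegCrit.isLinIndep_of_isRegularLocalRing_quotient (P := R)
    ![γ m.1, γ (a.1 * l₁.1 + b.1 * l₂.1)] (by intro i; fin_cases i; exacts [hm, hqm'])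
    (I₂.subschemeι.stalkMap z).hom hsurj (by
      rw [hker]
      congr 1
      ext y
      simp only [Set.mem_insert_iff, Set.mem_singleton_iff, Set.mem_range, Fin.exists_fin_two]
      simp [eq_comm]) hdim ![0, 1] (by simpa using hqm) 1
  simp at h8

include hq H in
/-- The ideal of the union is locally generated by a regular sequence. -/
theorem regAt (hsm : Smooth ((hypIdeal m ⊔ hypIdeal q).subschemeι ≫ CohB1.ProjSpace.toSpec n k))
    (hl : l₁.1 ≠ 0) (hqq : a.1 * l₁.1 + b.1 * l₂.1 ≠ 0) (x : CohB1.ProjSpace n k) :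
    Divis.RegImm.RegAt (II l₁ l₂ m q) x := by
  obtain ⟨j, V₀, hV₀, hxV₀, -⟩ := exists_small (n := n) (k := k) (U := ⊤) (x := x) trivial
  have hx : x ∈ chart n k j := hV₀.2 hxV₀
  have hqn : ∀ {V : (CohB1.ProjSpace n k).Opens} (hV : Small j V),
      ∀ z, (rho j hV.2 a.1 * rho j hV.2 l₁.1 + rho j hV.2 b.1 * rho j hV.2 l₂.1) * z = 0 → z = 0 := by
    intro V hV z hz
    refine rho_regular j hV (qf l₁ l₂ a b) hqq z ?_
    rw [← hz]
    simp only [qf, map_add, map_mul]
  by_cases h1 : x ∈ (CohB1.ProjSpace n k).basicOpen (rho j (le_refl (chart n k j)) l₁.1)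
  · obtain ⟨V, hV, hxV, hVU⟩ := exists_small_le h1 hx
    refine ⟨⟨V, hV.1⟩, hxV, _, wr_mq (hb_affine j hV.2 hV.1 H), ?_⟩
    rw [ideal_II hq H j ⟨V, hV.1⟩ hV.2, span_l1 (isUnit_rho j hV.2 _ hVU)]
  by_cases h2 : x ∈ (CohB1.ProjSpace n k).basicOpen (rho j (le_refl (chart n k j)) l₂.1)
  · obtain ⟨V, hV, hxV, hVU⟩ := exists_small_le h2 hx
    refine ⟨⟨V, hV.1⟩, hxV, _, wr_mq (hb_affine j hV.2 hV.1 H), ?_⟩
    rw [ideal_II hq H j ⟨V, hV.1⟩ hV.2, span_l2 (isUnit_rho j hV.2 _ hVU)]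
  by_cases hm : x ∈ (CohB1.ProjSpace n k).basicOpen (rho j (le_refl (chart n k j)) m.1)
  · obtain ⟨V, hV, hxV, hVU⟩ := exists_small_le hm hx
    refine ⟨⟨V, hV.1⟩, hxV, _, wr_ll (hb_affine j hV.2 hV.1 H) (rho_regular j hV l₁ hl), ?_⟩
    rw [ideal_II hq H j ⟨V, hV.1⟩ hV.2, span_m (isUnit_rho j hV.2 _ hVU)]
  by_cases ha : x ∈ (CohB1.ProjSpace n k).basicOpen (rho j (le_refl (chart n k j)) a.1)
  · obtain ⟨V, hV, hxV, hVU⟩ := exists_small_le ha hx
    refine ⟨⟨V, hV.1⟩, hxV, _, wr_q2 (hb_affine j hV.2 hV.1 H) (hqn hV) (isUnit_rho j hV.2 _ hVU), ?_⟩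
    rw [ideal_II hq H j ⟨V, hV.1⟩ hV.2, span_a (isUnit_rho j hV.2 _ hVU)]
  by_cases hb : x ∈ (CohB1.ProjSpace n k).basicOpen (rho j (le_refl (chart n k j)) b.1)
  · obtain ⟨V, hV, hxV, hVU⟩ := exists_small_le hb hx
    refine ⟨⟨V, hV.1⟩, hxV, _, wr_q1 (hb_affine j hV.2 hV.1 H) (hqn hV) (isUnit_rho j hV.2 _ hVU), ?_⟩
    rw [ideal_II hq H j ⟨V, hV.1⟩ hV.2, span_b (isUnit_rho j hV.2 _ hVU)]
  exact (a_or_b hq H hsm j x hx ((gam_mem_iff j x hx _).mpr h1) ((gam_mem_iff j x hx _).mpr h2)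
    ((gam_mem_iff j x hx _).mpr hm) ((gam_mem_iff j x hx _).mpr ha) ((gam_mem_iff j x hx _).mpr hb)).elim

include hq H in
theorem isRegularClosedImmersion
    (hsm : Smooth ((hypIdeal m ⊔ hypIdeal q).subschemeι ≫ CohB1.ProjSpace.toSpec n k))
    (hl : l₁.1 ≠ 0) (hqq : a.1 * l₁.1 + b.1 * l₂.1 ≠ 0) :
    Mor2.IsRegularClosedImmersion (II l₁ l₂ m q).subschemeι := by
  rw [Divis.RegImm.isRegularClosedImmersion_iff]
  refine ⟨inferInstance, fun z => ?_⟩
  rw [(II l₁ l₂ m q).ker_subschemeι]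
  exact regAt hq H hsm hl hqq _

end geo

end K715.Lci
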