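import Groth.Agent.Fano.K715.Gens
import Groth.Agent.PerfB.ModExact
import Groth.Agent.PerfA.IdealModule

/-!
# Sections of binary biproducts of modules, and morphisms checked on small affine opens of `P^n`
-/

set_option autoImplicit false

universe u

open CategoryTheory CategoryTheory.Limits AlgebraicGeometry TopologicalSpace Opposite

namespace K715.Pair

open Groth.Agent.Fdesc.LocGen

section biprod

variable {X : Scheme.{u}} {A B C D : X.Modules} {U V : X.Opens}

/-- The section `(a, b)` of `A ⊞ B`. -/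
noncomputable def pair (a : Γ(A, U)) (b : Γ(B, U)) : Γ(A ⊞ B, U) :=
  (biprod.inl : A ⟶ A ⊞ B).app U a + (biprod.inr : B ⟶ A ⊞ B).app U b

theorem fst_pair (a : Γ(A, U)) (b : Γ(B, U)) : (biprod.fst : A ⊞ B ⟶ A).app U (pair a b) = a := by
  rw [pair, map_add]
  have h1 : (biprod.fst : A ⊞ B ⟶ A).app U ((biprod.inl : A ⟶ A ⊞ B).app U a) = a := by
    change ((biprod.inl : A ⟶ A ⊞ B) ≫ biprod.fst).app U a = a
    rw [biprod.inl_fst]; rfl
  have h2 : (biprod.fst : A ⊞ B ⟶ A).app U ((biprod.inr : B ⟶ A ⊞ B).app U b) = 0 := by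
    change ((biprod.inr : B ⟶ A ⊞ B) ≫ biprod.fst).app U b = 0
    rw [biprod.inr_fst]; rfl
  rw [h1, h2, add_zero]

theorem snd_pair (a : Γ(A, U)) (b : Γ(B, U)) : (biprod.snd : A ⊞ B ⟶ B).app U (pair a b) = b := by
  rw [pair, map_add]
  have h1 : (biprod.snd : A ⊞ B ⟶ B).app U ((biprod.inl : A ⟶ A ⊞ B).app U a) = 0 := by
    change ((biprod.inl : A ⟶ A ⊞ B) ≫ biprod.snd).app U a = 0
    rw [biprod.inl_snd]; rfl
  have h2 : (biprod.snd : A ⊞ B ⟶ B).app U ((biprod.inr : B ⟶ A ⊞ B).app U b) = b := by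
    change ((biprod.inr : B ⟶ A ⊞ B) ≫ biprod.snd).app U b = b
    rw [biprod.inr_snd]; rfl
  rw [h1, h2, zero_add]

theorem eq_pair (w : Γ(A ⊞ B, U)) :
    w = pair ((biprod.fst : A ⊞ B ⟶ A).app U w) ((biprod.snd : A ⊞ B ⟶ B).app U w) := by
  have h : (𝟙 (A ⊞ B) : A ⊞ B ⟶ A ⊞ B).app U w =
      (biprod.fst ≫ biprod.inl + biprod.snd ≫ biprod.inr : A ⊞ B ⟶ A ⊞ B).app U w := by
    rw [biprod.total]
  exact h

theorem exists_pair (w : Γ(A ⊞ B, U)) : ∃ (a : Γ(A, U)) (b : Γ(B, U)), w = pair a b := ⟨_, _, eq_pair w⟩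

theorem pair_inj {a a' : Γ(A, U)} {b b' : Γ(B, U)} : pair a b = pair a' b' ↔ a = a' ∧ b = b' := by
  refine ⟨fun h => ⟨?_, ?_⟩, fun ⟨h1, h2⟩ => by rw [h1, h2]⟩
  · rw [← fst_pair a b, h, fst_pair]
  · rw [← snd_pair a b, h, snd_pair]

theorem pair_zero : pair (0 : Γ(A, U)) (0 : Γ(B, U)) = 0 := by
  rw [pair, map_zero, map_zero, add_zero]

theorem pair_add (a a' : Γ(A, U)) (b b' : Γ(B, U)) : pair a b + pair a' b' = pair (a + a') (b + b') := by
  rw [pair, pair, pair, map_add, map_add]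
  abel

theorem pair_eq_zero {a : Γ(A, U)} {b : Γ(B, U)} : pair a b = 0 ↔ a = 0 ∧ b = 0 := by
  rw [← pair_zero, pair_inj]

theorem smul_pair (r : Γ(X, U)) (a : Γ(A, U)) (b : Γ(B, U)) : r • pair a b = pair (r • a) (r • b) := by
  rw [pair, pair, smul_add, Scheme.Modules.Hom.app_smul, Scheme.Modules.Hom.app_smul]

theorem res_pair (h : V ≤ U) (a : Γ(A, U)) (b : Γ(B, U)) :
    res (A ⊞ B) h (pair a b) = pair (res A h a) (res B h b) := by
  rw [pair, map_add, ← app_res, ← app_res]; rfl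

theorem desc_pair (f : A ⟶ C) (g : B ⟶ C) (a : Γ(A, U)) (b : Γ(B, U)) :
    (biprod.desc f g).app U (pair a b) = f.app U a + g.app U b := by
  rw [pair, map_add]
  congr 1
  · change ((biprod.inl : A ⟶ A ⊞ B) ≫ biprod.desc f g).app U a = _
    rw [biprod.inl_desc]
  · change ((biprod.inr : B ⟶ A ⊞ B) ≫ biprod.desc f g).app U b = _
    rw [biprod.inr_desc]

theorem lift_app (f : C ⟶ A) (g : C ⟶ B) (c : Γ(C, U)) :
    (biprod.lift f g).app U c = pair (f.app U c) (g.app U c) := by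
  rw [eq_pair ((biprod.lift f g).app U c)]
  congr 1
  · change (biprod.lift f g ≫ biprod.fst).app U c = _
    rw [biprod.lift_fst]
  · change (biprod.lift f g ≫ biprod.snd).app U c = _
    rw [biprod.lift_snd]

theorem map_pair (f : A ⟶ C) (g : B ⟶ D) (a : Γ(A, U)) (b : Γ(B, U)) :
    (biprod.map f g).app U (pair a b) = pair (f.app U a) (g.app U b) := by
  rw [eq_pair ((biprod.map f g).app U (pair a b))]
  congr 1
  · change (biprod.map f g ≫ biprod.fst).app U (pair a b) = _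
    rw [biprod.map_fst]
    change f.app U ((biprod.fst : A ⊞ B ⟶ A).app U (pair a b)) = _
    rw [fst_pair]
  · change (biprod.map f g ≫ biprod.snd).app U (pair a b) = _
    rw [biprod.map_snd]
    change g.app U ((biprod.snd : A ⊞ B ⟶ B).app U (pair a b)) = _
    rw [snd_pair]

end biprod

section small

variable {n : ℕ} {k : Type u} [Field k]

open LefPen Groth.Agent.Lefpen.H705.HypIdeal

/-- Affine opens contained in a chart. -/
abbrev Small (j : Fin (n + 1)) (V : (CohB1.ProjSpace n k).Opens) : Prop := IsAffineOpen V ∧ V ≤ chart n k j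

theorem exists_small {U : (CohB1.ProjSpace n k).Opens} {x : CohB1.ProjSpace n k} (hx : x ∈ U) :
    ∃ (j : Fin (n + 1)) (V : (CohB1.ProjSpace n k).Opens), Small j V ∧ x ∈ V ∧ V ≤ U := by
  have h1 : x ∈ (⨆ j : Fin (n + 1), chart n k j) := by rw [iSup_chart]; trivial
  obtain ⟨j, hj⟩ := Opens.mem_iSup.mp h1
  obtain ⟨V, hV, hxV, hVU⟩ := Opens.isBasis_iff_nbhd.mp (CohB1.ProjSpace n k).isBasis_affineOpens
    (show x ∈ U ⊓ chart n k j from ⟨hx, hj⟩)
  exact ⟨j, V, ⟨hV, hVU.trans inf_le_right⟩, hxV, hVU.trans inf_le_left⟩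

theorem eq_zero_of_small {N : (CohB1.ProjSpace n k).Modules} {U : (CohB1.ProjSpace n k).Opens} (s : Γ(N, U))
    (h : ∀ (j : Fin (n + 1)) (V : (CohB1.ProjSpace n k).Opens) (_ : Small j V) (hVU : V ≤ U),
      res N hVU s = 0) : s = 0 := by
  have hloc : ∀ x : U, ∃ (j : Fin (n + 1)) (V : (CohB1.ProjSpace n k).Opens), Small j V ∧ x.1 ∈ V ∧ V ≤ U :=
    fun x => exists_small x.2
  choose j V hV hx hVU using hloc
  refine res_ext N V hVU (fun x hx' => Opens.mem_iSup.mpr ⟨⟨x, hx'⟩, hx _⟩) fun x => ?_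
  rw [h (j x) (V x) (hV x) (hVU x), map_zero]

/-- A morphism which vanishes on sections over small opens is zero. -/
theorem hom_eq_zero {M N : (CohB1.ProjSpace n k).Modules} (f : M ⟶ N)
    (h : ∀ (j : Fin (n + 1)) (V : (CohB1.ProjSpace n k).Opens) (_ : Small j V) (s : Γ(M, V)),
      f.app V s = 0) : f = 0 := by
  apply Scheme.Modules.hom_ext
  intro U
  ext s
  change f.app U s = 0
  refine eq_zero_of_small _ fun j V hV hVU => ?_
  rw [← app_res, h j V hV]

theorem hom_eq {M N : (CohB1.ProjSpace n k).Modules} (f g : M ⟶ N)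
    (h : ∀ (j : Fin (n + 1)) (V : (CohB1.ProjSpace n k).Opens) (_ : Small j V) (s : Γ(M, V)),
      f.app V s = g.app V s) : f = g := by
  rw [← sub_eq_zero]
  refine hom_eq_zero _ fun j V hV s => ?_
  change f.app V s - g.app V s = 0
  rw [h j V hV, sub_self]

theorem epi_of_small {M N : (CohB1.ProjSpace n k).Modules} (f : M ⟶ N)
    (h : ∀ (j : Fin (n + 1)) (V : (CohB1.ProjSpace n k).Opens) (_ : Small j V) (y : Γ(N, V)),
      ∃ z : Γ(M, V), f.app V z = y) : Epi f := by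
  refine Groth.Agent.PerfB.ModExact.epi_of_locally_surjective f fun U y x hx => ?_
  obtain ⟨j, V, hV, hxV, hVU⟩ := exists_small hx
  obtain ⟨z, hz⟩ := h j V hV (res N hVU y)
  exact ⟨V, hVU, hxV, z, hz⟩

theorem mono_of_small {M N : (CohB1.ProjSpace n k).Modules} (f : M ⟶ N)
    (h : ∀ (j : Fin (n + 1)) (V : (CohB1.ProjSpace n k).Opens) (_ : Small j V) (z : Γ(M, V)),
      f.app V z = 0 → z = 0) : Mono f := by
  apply Preadditive.mono_of_cancel_zero
  intro K g hg
  refine hom_eq_zero _ fun j V hV s => h j V hV _ ?_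
  change (g ≫ f).app V s = 0
  rw [hg]; rfl

theorem exact_of_small (S : ShortComplex (CohB1.ProjSpace n k).Modules)
    (h : ∀ (j : Fin (n + 1)) (V : (CohB1.ProjSpace n k).Opens) (_ : Small j V) (y : Γ(S.X₂, V)),
      S.g.app V y = 0 → ∃ z : Γ(S.X₁, V), S.f.app V z = y) : S.Exact := by
  refine Groth.Agent.PerfB.ModExact.exact_of_locally_lifts S fun U y hy x hx => ?_
  obtain ⟨j, V, hV, hxV, hVU⟩ := exists_small hx
  obtain ⟨z, hz⟩ := h j V hV (res S.X₂ hVU y) (by rw [app_res, hy, map_zero])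
  exact ⟨V, hVU, hxV, z, hz⟩

end small

end K715.Pair
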