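import Groth.Agent.Fano.K715.QuintDef
import Groth.Prelude.Def_DCoh4
import Groth.Prelude.Def_LCI2

/-!
# PLAN (sorried, never import in a shipped proof): quintic curves of genus two on a cubic threefold, S16529
-/

set_option autoImplicit false
universe u
open CategoryTheory CategoryTheory.Limits AlgebraicGeometry TopologicalSpace Opposite

namespace Groth.Agent.Fano.K715.PlanC

open Groth.Agent.Fano.K714.Rat Groth.Agent.Fano.K714.Quart Groth.Agent.Fano.K715.Quint

variable {k : Type u} [Field k] [IsAlgClosed k] [CharZero k]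

/-! ## GA: classification -/

theorem exists_solG (f : LefPen.Form 4 k 3) (hf : f ≠ 0) [Smooth (ps f)]
    (C : Scheme.{u}) (p : C ⟶ Spec (CommRingCat.of k)) (i : C ⟶ Xf f) (hcl : IsClosedImmersion i)
    (hip : i ≫ ps f = p) (hsm : Smooth p) (hpr : IsProper p) (hint : IsIntegral C)
    (hdim : topologicalKrullDim C = 1) (hg : @Curv2.genus k _ C ⟨p⟩ = 2)
    (hdeg : @Curv2.deg k _ C ⟨p⟩ ((Scheme.Modules.pullback (i ≫ emb f)).obj
      (Twist.twistProjSpace 4 k 1)) 1 = 5) :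
    ∃ q : DataG k, q.1 ∈ Sol f ∧ (i ≫ emb f).ker = cG q := by
  sorry

/-! ## GB: converse -/

theorem of_goodG (f : LefPen.Form 4 k 3) (q : DataG k) (hq : q.1 ∈ Sol f) (hgood : GoodG q) :
    ∃ (i : (cG q).subscheme ⟶ Xf f), i ≫ emb f = (cG q).subschemeι ∧ IsClosedImmersion i ∧
      i.ker = (cG q).comap (emb f) ∧ IsIntegral (cG q).subscheme ∧ IsProper (i ≫ ps f) ∧
      @Curv2.genus k _ (cG q).subscheme ⟨i ≫ ps f⟩ = 2 ∧
      @Curv2.deg k _ (cG q).subscheme ⟨i ≫ ps f⟩ ((Scheme.Modules.pullback (i ≫ emb f)).obj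
        (Twist.twistProjSpace 4 k 1)) 1 = 5 := by
  sorry

/-! ## GC: the family -/

theorem exists_poly_of_mem_openG (f : LefPen.Form 4 k 3) (H : Over (Spec (CommRingCat.of k)))
    (Z : FGA.HilbSet (ps f) H) (hH : FGA.HilbRepresentedBy (ps f) H Z) (A : H.left.Opens)
    {q₀ : DataG k} (hq₀ : q₀.1 ∈ Sol f) (hgood : GoodG q₀) {x₀ : ↥H.left} (hx₀ : IsClassG f H Z q₀ x₀)
    (hA : x₀ ∈ A) :
    ∃ G : MvPolynomial (((Fin 3 × Fin 5) ⊕ (Fin 3 × Fin 5 × Fin 5)) ⊕ (Fin 2 × Fin 5)) k,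
      MvPolynomial.eval (coordG q₀) G ≠ 0 ∧
      ∀ q : DataG k, q.1 ∈ Sol f → MvPolynomial.eval (coordG q) G ≠ 0 → GoodG q ∧ ∃ x ∈ A, IsClassG f H Z q x := by
  sorry

/-! ## GD: dimension at curves along which the hyperplane section is smooth -/

theorem regular_quint (f : LefPen.Form 4 k 3) (hf : f ≠ 0) [Smooth (ps f)]
    (H : Over (Spec (CommRingCat.of k))) (Z : FGA.HilbSet (ps f) H)
    (hH : FGA.HilbRepresentedBy (ps f) H Z) (q : DataG k) (hq : q.1 ∈ Sol f) (hgood : GoodG q)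
    (ht : Transv f q) (x : ↥H.left) (hx : IsClassG f H Z q x) :
    IsRegularLocalRing (H.left.presheaf.stalk x) ∧ ringKrullDim (H.left.presheaf.stalk x) = 10 := by
  sorry

/-! ## GE: the curve locus is open, and locally of finite type over the field -/

theorem exists_open_curveSet (f : LefPen.Form 4 k 3) (hf : f ≠ 0) [Smooth (ps f)]
    (H : Over (Spec (CommRingCat.of k))) (Z : FGA.HilbSet (ps f) H)
    (hH : FGA.HilbRepresentedBy (ps f) H Z) (g : ℕ) (d : ℤ) :
    ∃ A : H.left.Opens, LocallyOfFiniteType (A.ι ≫ H.hom) ∧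
      ∀ x : ↥H.left, x ∈ curveSet f H Z g d ↔ x ∈ A ∧ IsClosed ({x} : Set ↥H.left) := by
  sorry

/-! ## GG: existence of a smooth member -/

theorem exists_goodG (f : LefPen.Form 4 k 3) (hf : f ≠ 0) [Smooth (ps f)] :
    ∃ q : DataG k, q.1 ∈ Sol f ∧ GoodG q ∧ Transv f q := by
  sorry

end Groth.Agent.Fano.K715.PlanC
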