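import Groth.Agent.Fano.K715.QuintDef
import Groth.Agent.Fano.K434.HilbFam
import Groth.Agent.Fga.DimCut
import Groth.Agent.Fga.HilbFun
import Mathlib.Algebra.MvPolynomial.Funext
import Groth.Agent.EssDim.K995.CurveBasic
import Groth.Agent.Variety.K426.GeomPts

/-!
# Assembly for S16529: irreducibility and dimension of the space of genus 2 quintics
-/

set_option autoImplicit false
universe u
open CategoryTheory CategoryTheory.Limits AlgebraicGeometry TopologicalSpace Opposite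

namespace K715.QuintAsm

open Groth.Agent.Fano.K714.Rat Groth.Agent.Fano.K714.Quart Groth.Agent.Fano.K715.Quint

section gen

variable {k : Type u} [Field k]

/-- two points of the Hilbert scheme with the same pullback agree -/
theorem hom_unique {X : Scheme.{u}} {x : X ⟶ Spec (CommRingCat.of k)} {H : Over (Spec (CommRingCat.of k))}
    {Z : FGA.HilbSet x H} (hH : FGA.HilbRepresentedBy x H Z) {h h' : pt k ⟶ H}
    (e : FGA.hilbPull x h Z.1 = FGA.hilbPull x h' Z.1) : h = h' := by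
  have hn : IsLocallyNoetherian (pt k).left := by
    change IsLocallyNoetherian (Spec (CommRingCat.of k))
    infer_instance
  obtain ⟨g, -, hg⟩ := hH.2 (pt k) ⟨FGA.hilbPull x h Z.1, Groth.Agent.Fga.HilbFun.hilbPull_mem x h Z.2⟩
  exact (hg h rfl).trans (hg h' e.symm).symm

/-- the kernel of a closed immersion into a closed subscheme -/
theorem comap_ker_comp {C X P : Scheme.{u}} (i : C ⟶ X) (e : X ⟶ P) [IsClosedImmersion i] [IsClosedImmersion e] :
    (i ≫ e).ker.comap e = i.ker := by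
  have hsq : IsPullback (𝟙 C) i (i ≫ e) e := by
    refine ⟨⟨by rw [Category.id_comp]⟩, ⟨PullbackCone.IsLimit.mk _ (fun s => s.fst) (fun s => Category.comp_id _)
      (fun s => ?_) (fun s m h1 _ => by rw [← h1, Category.comp_id])⟩⟩
    rw [← cancel_mono e, Category.assoc]
    exact s.condition
  exact (Groth.Agent.Fga.HilbClosed.ker_of_isPullback hsq).symm

/-- A subscheme of `X` proper over `k` has a class. -/
theorem exists_class {X : Scheme.{u}} {x : X ⟶ Spec (CommRingCat.of k)} {H : Over (Spec (CommRingCat.of k))}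
    {Z : FGA.HilbSet x H} (hH : FGA.HilbRepresentedBy x H Z) {C : Scheme.{u}} (i : C ⟶ X) [IsClosedImmersion i]
    (hp : IsProper (i ≫ x)) :
    ∃ h : pt k ⟶ H, FGA.hilbPull x h Z.1 = i.ker.comap (pullback.fst x (pt k).hom) := by
  have hn : IsLocallyNoetherian (pt k).left := by
    change IsLocallyNoetherian (Spec (CommRingCat.of k))
    infer_instance
  have hiso : IsIso (pt k).hom := inferInstanceAs (IsIso (𝟙 (Spec (CommRingCat.of k))))
  let ℓ : C ⟶ PicF.XT x (pt k) := pullback.lift i (i ≫ x) (Category.comp_id _).symm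
  have h1 : ℓ ≫ pullback.fst x (pt k).hom = i := pullback.lift_fst _ _ _
  have h2 : ℓ ≫ PicF.XTproj x (pt k) = i ≫ x := pullback.lift_snd _ _ _
  have hcl : IsClosedImmersion ℓ := by
    have h3 : ℓ = i ≫ inv (pullback.fst x (pt k).hom) := by rw [IsIso.eq_comp_inv, h1]
    rw [h3]
    infer_instance
  have hf : Flat (i ≫ x) := inferInstance
  obtain ⟨h, hh, -⟩ := hH.2 (pt k) ⟨ℓ.ker, Groth.Agent.Fano.K434.HilbFam.mem_of_closed x (pt k) ℓ
    (by rw [h2]; exact hp) (by rw [h2]; exact hf)⟩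
  refine ⟨h, hh.trans ?_⟩
  have hsq : IsPullback (𝟙 C) ℓ i (pullback.fst x (pt k).hom) :=
    IsPullback.of_horiz_isIso ⟨by rw [Category.id_comp, h1]⟩
  exact Groth.Agent.Fga.HilbClosed.ker_of_isPullback hsq

end gen

section irr

variable {k : Type u} [Field k]

/-- restriction of a polynomial function to a slice -/
theorem exists_slice_left {σ τ : Type*} (G : MvPolynomial (σ ⊕ τ) k) (b : τ → k) :
    ∃ G₁ : MvPolynomial σ k, ∀ a : σ → k, MvPolynomial.eval a G₁ = MvPolynomial.eval (Sum.elim a b) G := by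
  refine ⟨MvPolynomial.aeval (Sum.elim MvPolynomial.X (fun t => MvPolynomial.C (b t))) G, fun a => ?_⟩
  have h : (MvPolynomial.aeval a).comp (MvPolynomial.aeval (R := k)
      (Sum.elim MvPolynomial.X (fun t => MvPolynomial.C (b t)) : σ ⊕ τ → MvPolynomial σ k)) =
      MvPolynomial.aeval (Sum.elim a b) := by
    ext i
    rcases i with i | i <;> simp
  have h2 := congrArg (fun φ => φ G) h
  simpa [MvPolynomial.aeval_eq_eval] using h2

theorem exists_slice_right {σ τ : Type*} (G : MvPolynomial (σ ⊕ τ) k) (a : σ → k) :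
    ∃ G₁ : MvPolynomial τ k, ∀ b : τ → k, MvPolynomial.eval b G₁ = MvPolynomial.eval (Sum.elim a b) G := by
  refine ⟨MvPolynomial.aeval (Sum.elim (fun t => MvPolynomial.C (a t)) MvPolynomial.X) G, fun b => ?_⟩
  have h : (MvPolynomial.aeval b).comp (MvPolynomial.aeval (R := k)
      (Sum.elim (fun t => MvPolynomial.C (a t)) MvPolynomial.X : σ ⊕ τ → MvPolynomial τ k)) =
      MvPolynomial.aeval (Sum.elim a b) := by
    ext i
    rcases i with i | i <;> simp
  have h2 := congrArg (fun φ => φ G) h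
  simpa [MvPolynomial.aeval_eq_eval] using h2

/-- The parameter space is irreducible. -/
theorem irr_dataG [Infinite k] (f : LefPen.Form 4 k 3)
    (QE : ∀ G G' : MvPolynomial ((Fin 3 × Fin 5) ⊕ (Fin 3 × Fin 5 × Fin 5)) k,
      (∃ q ∈ Sol f, MvPolynomial.eval (coord q) G ≠ 0) →
      (∃ q ∈ Sol f, MvPolynomial.eval (coord q) G' ≠ 0) →
      ∃ q ∈ Sol f, MvPolynomial.eval (coord q) G ≠ 0 ∧ MvPolynomial.eval (coord q) G' ≠ 0)
    (G G' : MvPolynomial (((Fin 3 × Fin 5) ⊕ (Fin 3 × Fin 5 × Fin 5)) ⊕ (Fin 2 × Fin 5)) k)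
    {q q' : DataG k} (hq : q.1 ∈ Sol f) (hq' : q'.1 ∈ Sol f) (hG : MvPolynomial.eval (coordG q) G ≠ 0)
    (hG' : MvPolynomial.eval (coordG q') G' ≠ 0) :
    ∃ p : DataG k, p.1 ∈ Sol f ∧ MvPolynomial.eval (coordG p) G ≠ 0 ∧ MvPolynomial.eval (coordG p) G' ≠ 0 := by
  obtain ⟨G₁, h1⟩ := exists_slice_left G (fun i => q.2 i.1 i.2)
  obtain ⟨G₁', h1'⟩ := exists_slice_left G' (fun i => q'.2 i.1 i.2)
  obtain ⟨p, hp, hp1, hp2⟩ := QE G₁ G₁' ⟨q.1, hq, by rw [h1]; exact hG⟩ ⟨q'.1, hq', by rw [h1']; exact hG'⟩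
  rw [h1] at hp1
  rw [h1'] at hp2
  obtain ⟨G₂, h2⟩ := exists_slice_right G (coord p)
  obtain ⟨G₂', h2'⟩ := exists_slice_right G' (coord p)
  rw [← h2] at hp1
  rw [← h2'] at hp2
  have h3 : G₂ * G₂' ≠ 0 := by
    refine mul_ne_zero ?_ ?_
    · rintro rfl; exact hp1 (map_zero _)
    · rintro rfl; exact hp2 (map_zero _)
  obtain ⟨b, hb⟩ : ∃ b : Fin 2 × Fin 5 → k, MvPolynomial.eval b (G₂ * G₂') ≠ 0 := by
    by_contra hcon
    push Not at hcon
    exact h3 (MvPolynomial.funext fun b => by rw [hcon b, map_zero])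
  rw [map_mul] at hb
  have h4 : ∀ b : Fin 2 × Fin 5 → k, coordG (p, fun i j => b (i, j)) = Sum.elim (coord p) b := fun b => rfl
  refine ⟨(p, fun i j => b (i, j)), hp, ?_, ?_⟩
  · rw [h4, ← h2]; exact left_ne_zero_of_mul hb
  · rw [h4, ← h2']; exact right_ne_zero_of_mul hb

end irr

section main

variable {k : Type u} [Field k] (f : LefPen.Form 4 k 3)
    (H : Over (Spec (CommRingCat.of k))) (Z : FGA.HilbSet (ps f) H) (hH : FGA.HilbRepresentedBy (ps f) H Z)

/-- The curves are the good residual curves. -/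
theorem curveSet_eq
    (GA : ∀ (C : Scheme.{u}) (p : C ⟶ Spec (CommRingCat.of k)) (i : C ⟶ Xf f), IsClosedImmersion i →
      i ≫ ps f = p → Smooth p → IsProper p → IsIntegral C →
      topologicalKrullDim C = 1 → @Curv2.genus k _ C ⟨p⟩ = 2 →
      @Curv2.deg k _ C ⟨p⟩ ((Scheme.Modules.pullback (i ≫ emb f)).obj (Twist.twistProjSpace 4 k 1)) 1 = 5 →
      ∃ q : DataG k, q.1 ∈ Sol f ∧ (i ≫ emb f).ker = cG q)
    (GB : ∀ q : DataG k, q.1 ∈ Sol f → GoodG q →
      ∃ (i : (cG q).subscheme ⟶ Xf f), i ≫ emb f = (cG q).subschemeι ∧ IsClosedImmersion i ∧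
      i.ker = (cG q).comap (emb f) ∧ IsIntegral (cG q).subscheme ∧ IsProper (i ≫ ps f) ∧
      @Curv2.genus k _ (cG q).subscheme ⟨i ≫ ps f⟩ = 2 ∧
      @Curv2.deg k _ (cG q).subscheme ⟨i ≫ ps f⟩ ((Scheme.Modules.pullback (i ≫ emb f)).obj
        (Twist.twistProjSpace 4 k 1)) 1 = 5) :
    curveSet f H Z 2 5 = {x | ∃ q : DataG k, q.1 ∈ Sol f ∧ GoodG q ∧ IsClassG f H Z q x} := by
  ext x
  constructor
  · rintro ⟨h, C, p, i, rfl, hcl, hp, hsm, hpr, hint, hdim, hg, hdeg, hh⟩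
    obtain ⟨q, hq, hker⟩ := GA C p i hcl hp hsm hpr hint hdim hg hdeg
    -- the curve is isomorphic to its image
    have hcl2 : IsClosedImmersion (i ≫ emb f) := inferInstance
    have hiso : IsIso (i ≫ emb f).toImage := inferInstance
    have e0 : (i ≫ emb f).toImage ≫ (i ≫ emb f).imageι = i ≫ emb f := (i ≫ emb f).toImage_imageι
    have hgood : GoodG q := by
      refine ⟨?_, ?_⟩
      · rw [← hker]
        have h1 : (i ≫ emb f).toImage ≫ (i ≫ emb f).ker.subschemeι ≫ CohB1.ProjSpace.toSpec 4 k = p := by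
          rw [← Category.assoc]
          change ((i ≫ emb f).toImage ≫ (i ≫ emb f).imageι) ≫ CohB1.ProjSpace.toSpec 4 k = p
          rw [e0, Category.assoc]
          exact hp
        rw [← MorphismProperty.cancel_left_of_respectsIso @Smooth (i ≫ emb f).toImage, h1]
        exact hsm
      · rw [← hker, ← hdim]
        exact (Scheme.homeoOfIso (asIso (i ≫ emb f).toImage)).isHomeomorph.topologicalKrullDim_eq.symm
    refine ⟨q, hq, hgood, h, rfl, ?_⟩
    rw [← hker, comap_ker_comp]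
    exact hh
  · rintro ⟨q, hq, hgood, h, rfl, hh⟩
    obtain ⟨i, h1, h2, h3, h4, h5, h6, h7⟩ := GB q hq hgood
    refine ⟨h, (cG q).subscheme, i ≫ ps f, i, rfl, h2, rfl, ?_, h5, h4, hgood.2, h6, h7, ?_⟩
    · have h8 : i ≫ ps f = (cG q).subschemeι ≫ CohB1.ProjSpace.toSpec 4 k := by
        rw [← h1, Category.assoc]
      rw [h8]
      exact hgood.1
    · rw [h3]; exact hh

theorem irreducible [Infinite k] (hH : FGA.HilbRepresentedBy (ps f) H Z)
    (GB : ∀ q : DataG k, q.1 ∈ Sol f → GoodG q →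
      ∃ (i : (cG q).subscheme ⟶ Xf f), i ≫ emb f = (cG q).subschemeι ∧ IsClosedImmersion i ∧
      i.ker = (cG q).comap (emb f) ∧ IsIntegral (cG q).subscheme ∧ IsProper (i ≫ ps f) ∧
      @Curv2.genus k _ (cG q).subscheme ⟨i ≫ ps f⟩ = 2 ∧
      @Curv2.deg k _ (cG q).subscheme ⟨i ≫ ps f⟩ ((Scheme.Modules.pullback (i ≫ emb f)).obj
        (Twist.twistProjSpace 4 k 1)) 1 = 5)
    (GC : ∀ (A : H.left.Opens) (q₀ : DataG k), q₀.1 ∈ Sol f → GoodG q₀ → ∀ x₀ : ↥H.left,
      IsClassG f H Z q₀ x₀ → x₀ ∈ A →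
      ∃ G : MvPolynomial (((Fin 3 × Fin 5) ⊕ (Fin 3 × Fin 5 × Fin 5)) ⊕ (Fin 2 × Fin 5)) k,
      MvPolynomial.eval (coordG q₀) G ≠ 0 ∧
      ∀ q : DataG k, q.1 ∈ Sol f → MvPolynomial.eval (coordG q) G ≠ 0 → GoodG q ∧ ∃ x ∈ A, IsClassG f H Z q x)
    (QE : ∀ G G' : MvPolynomial ((Fin 3 × Fin 5) ⊕ (Fin 3 × Fin 5 × Fin 5)) k,
      (∃ q ∈ Sol f, MvPolynomial.eval (coord q) G ≠ 0) →
      (∃ q ∈ Sol f, MvPolynomial.eval (coord q) G' ≠ 0) →
      ∃ q ∈ Sol f, MvPolynomial.eval (coord q) G ≠ 0 ∧ MvPolynomial.eval (coord q) G' ≠ 0)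
    (GG : ∃ q : DataG k, q.1 ∈ Sol f ∧ GoodG q) :
    IsIrreducible {x | ∃ q : DataG k, q.1 ∈ Sol f ∧ GoodG q ∧ IsClassG f H Z q x} := by
  refine ⟨?_, ?_⟩
  · obtain ⟨q, hq, hgood⟩ := GG
    obtain ⟨i, h1, h2, h3, h4, h5, -⟩ := GB q hq hgood
    obtain ⟨h, hh⟩ := exists_class hH i h5
    refine ⟨h.left.base (IsLocalRing.closedPoint k), q, hq, hgood, h, rfl, ?_⟩
    rw [hh, h3]
  · rintro A A' hA hA' ⟨x, ⟨q, hq, hg, hx⟩, hxA⟩ ⟨x', ⟨q', hq', hg', hx'⟩, hxA'⟩
    obtain ⟨G, hG, h1⟩ := GC ⟨A, hA⟩ q hq hg x hx hxA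
    obtain ⟨G', hG', h1'⟩ := GC ⟨A', hA'⟩ q' hq' hg' x' hx' hxA'
    obtain ⟨p, hp, h2, h3⟩ := irr_dataG f QE G G' hq hq' hG hG'
    obtain ⟨hgp, y, hyA, h, rfl, hh⟩ := h1 p hp h2
    obtain ⟨-, y', hyA', h', rfl, hh'⟩ := h1' p hp h3
    obtain rfl := hom_unique hH (hh.trans hh'.symm)
    exact ⟨_, ⟨p, hp, hgp, h, rfl, hh⟩, hyA, hyA'⟩

/-- Rational points are closed. -/
theorem isClosed_of_section {H : Scheme.{u}} (p : H ⟶ Spec (CommRingCat.of k)) (s : Spec (CommRingCat.of k) ⟶ H)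
    (hs : s ≫ p = 𝟙 _) : IsClosed ({s (IsLocalRing.closedPoint k)} : Set H) := by
  rw [← closure_subset_iff_isClosed]
  intro y hy
  have hxy : s (IsLocalRing.closedPoint k) ⤳ y := specializes_iff_mem_closure.mpr hy
  obtain ⟨V, hV, hyV, -⟩ := exists_isAffineOpen_mem_and_subset (x := y) (U := ⊤) trivial
  have hxV : s (IsLocalRing.closedPoint k) ∈ V := hxy.mem_open V.2 hyV
  have hrange : Set.range s ⊆ Set.range V.ι := by
    rintro _ ⟨z, rfl⟩
    rw [Scheme.Opens.range_ι]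
    have : z = IsLocalRing.closedPoint k := Subsingleton.elim _ _
    rw [this]
    exact hxV
  let s' : Spec (CommRingCat.of k) ⟶ V := IsOpenImmersion.lift V.ι s hrange
  have hs' : s' ≫ V.ι = s := IsOpenImmersion.lift_fac _ _ _
  have haff : IsAffine V := hV
  have hcl := K995.CurveBasic.isClosed_of_section (p := V.ι ≫ p) s' (by
    rw [← Category.assoc, hs', hs])
  have h1 : V.ι (s' (IsLocalRing.closedPoint k)) = s (IsLocalRing.closedPoint k) := by
    rw [← Scheme.Hom.comp_apply, hs']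
  have h2 : s' (IsLocalRing.closedPoint k) ⤳ (⟨y, hyV⟩ : V) := by
    rw [← V.ι.isOpenEmbedding.isInducing.specializes_iff, h1]
    exact hxy
  have h3 := (specializes_iff_mem_closure.mp h2)
  rw [hcl.closure_eq] at h3
  have h4 : (⟨y, hyV⟩ : V) = s' (IsLocalRing.closedPoint k) := h3
  rw [Set.mem_singleton_iff, ← h1, ← h4]
  rfl

/-- All closed points of an open subscheme locally of finite type have the same local dimension if they form an
irreducible set. -/
theorem dim_eq [IsAlgClosed k] (A : H.left.Opens) (hA : LocallyOfFiniteType (A.ι ≫ H.hom)) {T : Set ↥H.left}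
    (hT : ∀ x : ↥H.left, x ∈ T ↔ x ∈ A ∧ IsClosed ({x} : Set ↥H.left)) (hirr : IsIrreducible T)
    {x y : ↥H.left} (hx : x ∈ T) (hy : y ∈ T) :
    ringKrullDim (H.left.presheaf.stalk x) = ringKrullDim (H.left.presheaf.stalk y) := by
  let _ : (A : Scheme.{u}).Over (Spec (CommRingCat.of k)) := ⟨A.ι ≫ H.hom⟩
  have hlft : LocallyOfFiniteType ((A : Scheme.{u}) ↘ Spec (CommRingCat.of k)) := hA
  have hJ : JacobsonSpace (A : Scheme.{u}) := LocallyOfFiniteType.jacobsonSpace (A.ι ≫ H.hom)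
  have hsub : closedPoints (A : Scheme.{u}) ⊆ A.ι ⁻¹' T := by
    intro a ha
    obtain ⟨p, hp, hpa⟩ := (K426.GeomPts.isClosed_iff_exists k (A : Scheme.{u}) k a).1 ha
    refine (hT _).2 ⟨?_, ?_⟩
    · exact a.2
    · have h1 := isClosed_of_section (k := k) H.hom (p ≫ A.ι) (by
        rw [Category.assoc]
        exact hp.trans (by rw [show algebraMap k k = RingHom.id k from rfl]; exact Spec.map_id _))
      rw [Scheme.Hom.comp_apply, hpa] at h1
      exact h1
  have hpre : IsPreirreducible (A.ι ⁻¹' T) := hirr.2.preimage A.ι.isOpenEmbedding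
  have huniv : IsPreirreducible (Set.univ : Set (A : Scheme.{u})) := by
    have h1 := hpre.closure
    have h2 : closure (A.ι ⁻¹' T) = Set.univ := by
      rw [← Set.univ_subset_iff, ← closure_closedPoints]
      exact closure_mono hsub
    rwa [h2] at h1
  have hxA := ((hT x).1 hx).1
  have hyA := ((hT y).1 hy).1
  have hI : IrreducibleSpace (A : Scheme.{u}) :=
    { isPreirreducible_univ := huniv, toNonempty := ⟨⟨x, hxA⟩⟩ }
  have key : ∀ z : ↥H.left, z ∈ T → ringKrullDim (H.left.presheaf.stalk z) =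
      topologicalKrullDim (A : Scheme.{u}) := by
    intro z hz
    obtain ⟨hzA, hzc⟩ := (hT z).1 hz
    have h1 : IsClosed ({⟨z, hzA⟩} : Set (A : Scheme.{u})) := by
      have h2 : ({⟨z, hzA⟩} : Set (A : Scheme.{u})) = A.ι ⁻¹' {z} := by
        ext w
        rw [Set.mem_singleton_iff, Set.mem_preimage, Set.mem_singleton_iff]
        exact Subtype.ext_iff
      rw [h2]
      exact hzc.preimage A.ι.continuous
    rw [← Groth.Agent.Fga.DimCut.ringKrullDim_stalk_eq k (A : Scheme.{u}) ⟨z, hzA⟩ h1]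
    exact (ringKrullDim_eq_of_ringEquiv (A.stalkIso ⟨z, hzA⟩).commRingCatIsoToRingEquiv).symm
  rw [key x hx, key y hy]

/-- **Assembly.** -/
theorem assemble [IsAlgClosed k] (hH : FGA.HilbRepresentedBy (ps f) H Z)
    (GA : ∀ (C : Scheme.{u}) (p : C ⟶ Spec (CommRingCat.of k)) (i : C ⟶ Xf f), IsClosedImmersion i →
      i ≫ ps f = p → Smooth p → IsProper p → IsIntegral C →
      topologicalKrullDim C = 1 → @Curv2.genus k _ C ⟨p⟩ = 2 →
      @Curv2.deg k _ C ⟨p⟩ ((Scheme.Modules.pullback (i ≫ emb f)).obj (Twist.twistProjSpace 4 k 1)) 1 = 5 →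
      ∃ q : DataG k, q.1 ∈ Sol f ∧ (i ≫ emb f).ker = cG q)
    (GB : ∀ q : DataG k, q.1 ∈ Sol f → GoodG q →
      ∃ (i : (cG q).subscheme ⟶ Xf f), i ≫ emb f = (cG q).subschemeι ∧ IsClosedImmersion i ∧
      i.ker = (cG q).comap (emb f) ∧ IsIntegral (cG q).subscheme ∧ IsProper (i ≫ ps f) ∧
      @Curv2.genus k _ (cG q).subscheme ⟨i ≫ ps f⟩ = 2 ∧
      @Curv2.deg k _ (cG q).subscheme ⟨i ≫ ps f⟩ ((Scheme.Modules.pullback (i ≫ emb f)).obj
        (Twist.twistProjSpace 4 k 1)) 1 = 5)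
    (GC : ∀ (A : H.left.Opens) (q₀ : DataG k), q₀.1 ∈ Sol f → GoodG q₀ → ∀ x₀ : ↥H.left,
      IsClassG f H Z q₀ x₀ → x₀ ∈ A →
      ∃ G : MvPolynomial (((Fin 3 × Fin 5) ⊕ (Fin 3 × Fin 5 × Fin 5)) ⊕ (Fin 2 × Fin 5)) k,
      MvPolynomial.eval (coordG q₀) G ≠ 0 ∧
      ∀ q : DataG k, q.1 ∈ Sol f → MvPolynomial.eval (coordG q) G ≠ 0 → GoodG q ∧ ∃ x ∈ A, IsClassG f H Z q x)
    (GD : ∀ q : DataG k, q.1 ∈ Sol f → GoodG q → Transv f q → ∀ x : ↥H.left, IsClassG f H Z q x →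
      ringKrullDim (H.left.presheaf.stalk x) = 10)
    (GE : ∃ A : H.left.Opens, LocallyOfFiniteType (A.ι ≫ H.hom) ∧
      ∀ x : ↥H.left, x ∈ curveSet f H Z 2 5 ↔ x ∈ A ∧ IsClosed ({x} : Set ↥H.left))
    (GG : ∃ q : DataG k, q.1 ∈ Sol f ∧ GoodG q ∧ Transv f q)
    (QE : ∀ G G' : MvPolynomial ((Fin 3 × Fin 5) ⊕ (Fin 3 × Fin 5 × Fin 5)) k,
      (∃ q ∈ Sol f, MvPolynomial.eval (coord q) G ≠ 0) →
      (∃ q ∈ Sol f, MvPolynomial.eval (coord q) G' ≠ 0) →
      ∃ q ∈ Sol f, MvPolynomial.eval (coord q) G ≠ 0 ∧ MvPolynomial.eval (coord q) G' ≠ 0) :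
    IsIrreducible (curveSet f H Z 2 5) ∧
      ∀ x ∈ curveSet f H Z 2 5, ringKrullDim (H.left.presheaf.stalk x) = 10 := by
  have : Infinite k := IsAlgClosed.instInfinite
  have hset := curveSet_eq f H Z GA GB
  obtain ⟨q, hq, hgood, ht⟩ := GG
  have hirr : IsIrreducible (curveSet f H Z 2 5) := by
    rw [hset]
    exact irreducible f H Z hH GB GC QE ⟨q, hq, hgood⟩
  refine ⟨hirr, fun x hx => ?_⟩
  obtain ⟨A, hA, hT⟩ := GE
  -- a point of dimension 10
  obtain ⟨i, h1, h2, h3, h4, h5, -⟩ := GB q hq hgood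
  obtain ⟨h, hh⟩ := exists_class hH i h5
  have hcls : IsClassG f H Z q (h.left.base (IsLocalRing.closedPoint k)) := ⟨h, rfl, by rw [hh, h3]⟩
  have hy : h.left.base (IsLocalRing.closedPoint k) ∈ curveSet f H Z 2 5 := by
    rw [hset]
    exact ⟨q, hq, hgood, hcls⟩
  rw [dim_eq H A hA hT hirr hx hy]
  exact GD q hq hgood ht _ hcls

end main

end K715.QuintAsm
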